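import Groth.Agent.Sga3.H773.ConjReg
import Groth.Agent.Sga3B.IsomHa505
import Groth.Agent.Sga3B.SplitGlue904
import Groth.Agent.Sga3C.GrpIrr
import Groth.Prelude.Def_SGA3x

/-!
# Cartan subgroups: the facts over algebraically closed fields

`Facts` collects the facts on Cartan subgroups of smooth connected algebraic groups over algebraically closed fields
(not necessarily affine) from which the theorem on Cartan subgroups over a base is deduced.
-/

set_option autoImplicit false
universe u
open CategoryTheory MonoidalCategory CartesianMonoidalCategory MonObj GrpObj AlgebraicGeometry Limits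

namespace Groth.Agent.Sga3.H773.CartanFacts

open Groth.Agent.Sga3B Groth.Agent.Sga3B.RedIso Groth.Agent.Agf.H583.ConjSub

/-- Facts over algebraically closed fields. -/
structure Facts : Prop where
  /-- Cartan subgroups are connected. -/
  conn : ∀ (K : Type u) [Field K] [IsAlgClosed K] (G C : Over (Spec (CommRingCat.of K))) [GrpObj G] [GrpObj C]
    [Smooth G.hom] [QuasiCompact G.hom] [ConnectedSpace G.left] (c : C ⟶ G), SGA3x.IsCartanOver K c →
    ConnectedSpace C.left
  /-- Torsion elements of order invertible in `K` are central in Cartan subgroups. -/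
  cent : ∀ (K : Type u) [Field K] [IsAlgClosed K] (G C : Over (Spec (CommRingCat.of K))) [GrpObj G] [GrpObj C]
    [Smooth G.hom] [QuasiCompact G.hom] [ConnectedSpace G.left] (c : C ⟶ G), SGA3x.IsCartanOver K c →
    ∀ (n : ℕ), (n : K) ≠ 0 → ∀ x : 𝟙_ (Over (Spec (CommRingCat.of K))) ⟶ C, x ^ n = 1 →
    ∀ (T : Over (Spec (CommRingCat.of K))) (g : T ⟶ C), g * (toUnit T ≫ x) = (toUnit T ≫ x) * g
  /-- A Cartan subgroup is the centralizer of a finite group of order a power of a given prime invertible in `K`. -/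
  tors : ∀ (K : Type u) [Field K] [IsAlgClosed K] (G C : Over (Spec (CommRingCat.of K))) [GrpObj G] [GrpObj C]
    [Smooth G.hom] [QuasiCompact G.hom] [ConnectedSpace G.left] (c : C ⟶ G), SGA3x.IsCartanOver K c →
    ∀ l : ℕ, l.Prime → (l : K) ≠ 0 → ∃ (Γ : Type) (_ : CommGroup Γ) (_ : Finite Γ)
      (φ : Γ →* (𝟙_ (Over (Spec (CommRingCat.of K))) ⟶ C)), (∃ m : ℕ, Nat.card Γ = l ^ m) ∧
      ∀ (T : Over (Spec (CommRingCat.of K))) (g : T ⟶ G), (∃ t : T ⟶ C, t ≫ c = g) ↔
        ∀ γ, g * (toUnit T ≫ φ γ ≫ c) = (toUnit T ≫ φ γ ≫ c) * g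
  /-- Cartan subgroups are conjugate. -/
  conj : ∀ (K : Type u) [Field K] [IsAlgClosed K] (G C₁ C₂ : Over (Spec (CommRingCat.of K))) [GrpObj G] [GrpObj C₁]
    [GrpObj C₂] [Smooth G.hom] [QuasiCompact G.hom] [ConnectedSpace G.left] (c₁ : C₁ ⟶ G) (c₂ : C₂ ⟶ G),
    SGA3x.IsCartanOver K c₁ → SGA3x.IsCartanOver K c₂ →
    ∃ h : 𝟙_ (Over (Spec (CommRingCat.of K))) ⟶ G, ConjSub c₁ c₂ h
  /-- The fibre of a Cartan subgroup at a point with values in an algebraically closed field is a Cartan subgroup. -/
  point : ∀ (S : Scheme.{u}) (G C : Over S) [GrpObj G] [GrpObj C] [Smooth G.hom] [QuasiCompact G.hom]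
    (_ : ∀ s : S, _root_.IsConnected (G.hom.base ⁻¹' {s})) (c : C ⟶ G), SGA3x.IsCartan c →
    ∀ (L : Type u) [Field L] [IsAlgClosed L] (y : Spec (CommRingCat.of L) ⟶ S),
    SGA3x.IsCartanOver L ((Over.pullback y).map c)
  /-- Cartan subgroups can be recognized over points with values in algebraically closed fields. -/
  of_points : ∀ (S : Scheme.{u}) (G C : Over S) [GrpObj G] [GrpObj C] [Smooth G.hom] [QuasiCompact G.hom]
    (_ : ∀ s : S, _root_.IsConnected (G.hom.base ⁻¹' {s})) (c : C ⟶ G) [IsMonHom c] [Mono c] [Smooth C.hom],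
    (∀ s : S, ∃ (L : Type u) (_ : Field L) (_ : IsAlgClosed L) (y : Spec (CommRingCat.of L) ⟶ S),
      y (IsLocalRing.closedPoint L) = s ∧ SGA3x.IsCartanOver L ((Over.pullback y).map c)) →
    SGA3x.IsCartan c

/-- The property of being a Cartan subgroup is invariant under isomorphisms. -/
theorem isCartanOver_of_arrow {K : Type u} [Field K] {G C G₁ C₁ : Over (Spec (CommRingCat.of K))} [GrpObj G]
    [GrpObj C] [GrpObj G₁] [GrpObj C₁] {c : C ⟶ G} {c₁ : C₁ ⟶ G₁} (φ : Grp.mk C ≅ Grp.mk C₁)
    (ψ : Grp.mk G ≅ Grp.mk G₁) (hc : c ≫ (und ψ).hom = (und φ).hom ≫ c₁) (h : SGA3x.IsCartanOver K c) :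
    SGA3x.IsCartanOver K c₁ := by
  obtain ⟨h1, h2, T, hT, i, hi, hz⟩ := h
  have e : c₁ = (und φ).inv ≫ c ≫ (und ψ).hom := by rw [hc, Iso.inv_hom_id_assoc]
  have hm1 : IsMonHom c₁ := by rw [e]; infer_instance
  have hm2 : Mono c₁ := by rw [e]; infer_instance
  refine ⟨hm1, hm2, T, hT, i ≫ (und ψ).hom, IsomHa505.isMaximalTorus_comp_iso ψ hi, hm1, hm2, fun X g => ?_⟩
  have h3 := hz.2.2 X (g ≫ (und ψ).inv)
  have h4 : (∃ z : X ⟶ C₁, z ≫ c₁ = g) ↔ ∃ z : X ⟶ C, z ≫ c = g ≫ (und ψ).inv := by
    constructor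
    · rintro ⟨z, rfl⟩
      refine ⟨z ≫ (und φ).inv, ?_⟩
      rw [e]
      simp only [Category.assoc, Iso.hom_inv_id, Category.comp_id]
    · rintro ⟨z, hz⟩
      refine ⟨z ≫ (und φ).hom, ?_⟩
      rw [e, Category.assoc, Iso.hom_inv_id_assoc, ← Category.assoc, hz, Category.assoc, Iso.inv_hom_id,
        Category.comp_id]
  rw [h4, h3]
  refine forall_congr' fun X' => forall_congr' fun x => forall_congr' fun t => ?_
  constructor
  · intro h5
    have h6 := congrArg (fun f => f ≫ (und ψ).hom) h5
    simp only [MonObj.mul_comp, Category.assoc, Iso.inv_hom_id, Category.comp_id] at h6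
    exact h6
  · intro h5
    have h6 := congrArg (fun f => f ≫ (und ψ).inv) h5
    simp only [MonObj.mul_comp, Category.assoc, Iso.hom_inv_id, Category.comp_id] at h6
    exact h6

section Geometry

variable {S : Scheme.{u}}

lemma fibre_conn {G : Over S} [GeometricallyIrreducible G.hom] (s : S) :
    _root_.IsConnected (G.hom.base ⁻¹' {s}) := by
  have h1 := IrreducibleSpace.isIrreducible_univ (G.hom.fiber s)
  have h2 := h1.isConnected.image (G.hom.fiberι s) (G.hom.fiberι s).continuous.continuousOn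
  rw [Set.image_univ, G.hom.range_fiberι] at h2
  exact h2

instance connectedSpace_bc {G : Over S} [GeometricallyIrreducible G.hom] {L : Type u} [Field L]
    (y : Spec (CommRingCat.of L) ⟶ S) : ConnectedSpace (Red.bc y G).left := by
  have : IrreducibleSpace (Red.bc y G).left :=
    GeometricallyIrreducible.irreducibleSpace_of_subsingleton (pullback.snd G.hom y)
  infer_instance

instance geometricallyIrreducible_bc {S' : Scheme.{u}} (f : S' ⟶ S) {G : Over S} [GeometricallyIrreducible G.hom] :
    GeometricallyIrreducible (Red.bc f G).hom :=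
  inferInstanceAs (GeometricallyIrreducible (pullback.snd G.hom f))

instance smooth_bc {S' : Scheme.{u}} (f : S' ⟶ S) {G : Over S} [Smooth G.hom] : Smooth (Red.bc f G).hom :=
  inferInstanceAs (Smooth (pullback.snd G.hom f))

instance quasiCompact_bc {S' : Scheme.{u}} (f : S' ⟶ S) {G : Over S} [QuasiCompact G.hom] :
    QuasiCompact (Red.bc f G).hom :=
  inferInstanceAs (QuasiCompact (pullback.snd G.hom f))

instance isSeparated_bc {S' : Scheme.{u}} (f : S' ⟶ S) {G : Over S} [IsSeparated G.hom] :
    IsSeparated (Red.bc f G).hom :=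
  inferInstanceAs (IsSeparated (pullback.snd G.hom f))

variable (F : Facts.{u}) {G C : Over S} [GrpObj G] [GrpObj C] [Smooth G.hom] [QuasiCompact G.hom]
  [GeometricallyIrreducible G.hom] {c : C ⟶ G}

include F in
/-- Cartan subgroups have geometrically irreducible fibres. -/
theorem geomIrr (hc : SGA3x.IsCartan c) : GeometricallyIrreducible C.hom := by
  have hs := hc.2.2.1
  have hgrp : GrpObj (Over.mk C.hom) := inferInstanceAs (GrpObj C)
  refine Groth.Agent.Sga3C.GrpIrr.geometricallyIrreducible_of_connected_fibres C.hom fun s => ?_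
  have h1 := F.conn _ _ _ _ (F.point S G C fibre_conn c hc _ (Red.geomPt s))
  have h2 : _root_.IsConnected (Set.univ : Set (Red.bc (Red.geomPt s) C).left) := isConnected_univ
  have h3 := h2.image (pullback.fst C.hom (Red.geomPt s)) (pullback.fst C.hom (Red.geomPt s)).continuous.continuousOn
  rw [Set.image_univ, Scheme.Pullback.range_fst] at h3
  have h4 : Set.range (Red.geomPt s) = {s} := by
    ext t
    constructor
    · rintro ⟨z, rfl⟩
      rw [Red.geomPt, Scheme.Hom.comp_apply]
      exact Scheme.fromSpecResidueField_apply _ _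
    · rintro rfl
      refine ⟨Classical.arbitrary _, ?_⟩
      rw [Red.geomPt, Scheme.Hom.comp_apply]
      exact Scheme.fromSpecResidueField_apply _ _
  rw [h4] at h3
  exact h3

include F in
/-- Cartan subgroups are stable under base change. -/
theorem isCartan_bc (hc : SGA3x.IsCartan c) {S' : Scheme.{u}} (f : S' ⟶ S) :
    SGA3x.IsCartan ((Over.pullback f).map c) := by
  have hm := hc.1
  have hm' := hc.2.1
  have hs := hc.2.2.1
  have hs' : Smooth ((Over.pullback f).obj C).hom := smooth_bc f
  refine F.of_points S' (Red.bc f G) (Red.bc f C) fibre_conn ((Over.pullback f).map c) fun s' => ?_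
  refine ⟨_, inferInstance, inferInstance, Red.geomPt s', ?_, ?_⟩
  · rw [Red.geomPt, Scheme.Hom.comp_apply]
    exact Scheme.fromSpecResidueField_apply _ _
  · refine isCartanOver_of_arrow (BcIso.bcCompIso _ f C) (BcIso.bcCompIso _ f G) ?_
      (F.point S G C fibre_conn c hc _ (Red.geomPt s' ≫ f))
    exact SplitGlue904.bcCompIso_naturality _ _ _

end Geometry

end Groth.Agent.Sga3.H773.CartanFacts
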