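import Groth.Agent.Sga3.H773.CartanFacts

/-!
# Torsion points of Cartan subgroups are central
-/

set_option autoImplicit false
universe u
open CategoryTheory MonoidalCategory CartesianMonoidalCategory MonObj GrpObj AlgebraicGeometry Limits

namespace Groth.Agent.Sga3.H773.CartCent

open Groth.Agent.Sga3B Groth.Agent.Sga3B.DSPts Groth.Agent.Sga3.H797.HomFin FinCent ToBc RegLoc ConjReg
  CartanFacts Groth.Agent.Sga3.H799.FibCrit

variable {S : Scheme.{u}} {Γ : Type*} [Group Γ]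

section bc

variable {S' : Scheme.{u}} (f : S' ⟶ S) {G : Over S} [GrpObj G]

/-- Base change of `S`-points. -/
noncomputable def bcHom (φ : Γ →* (𝟙_ (Over S) ⟶ G)) : Γ →* (𝟙_ (Over S') ⟶ Red.bc f G) :=
  (bcEquiv f (𝟙_ (Over S')) G).toMonoidHom.comp
    ((Groth.Agent.Sga3.H797.InfChart.pre G (toUnit ((Over.map f).obj (𝟙_ (Over S'))))).comp φ)

lemma bcHom_apply (φ : Γ →* (𝟙_ (Over S) ⟶ G)) (γ : Γ) :
    bcHom f φ γ = bcEquiv f (𝟙_ (Over S')) G (toUnit _ ≫ φ γ) := rfl

lemma toUnit_bcHom (φ : Γ →* (𝟙_ (Over S) ⟶ G)) (γ : Γ) (T' : Over S') :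
    toUnit T' ≫ bcHom f φ γ = bcEquiv f T' G (toUnit _ ≫ φ γ) := by
  rw [bcHom_apply, bcEquiv_naturality, ← Category.assoc]
  congr 2

lemma isCent_bc {φ : Γ →* (𝟙_ (Over S) ⟶ G)} {Z : Over S} [GrpObj Z] {z : Z ⟶ G} (h : IsCent φ z) :
    IsCent (bcHom f φ) ((Over.pullback f).map z) := by
  intro T' g
  obtain ⟨g₀, rfl⟩ := (bcEquiv f T' G).surjective g
  have h1 := h _ g₀
  have h2 : (∃ t : T' ⟶ (Over.pullback f).obj Z, t ≫ (Over.pullback f).map z = bcEquiv f T' G g₀) ↔
      ∃ t : (Over.map f).obj T' ⟶ Z, t ≫ z = g₀ := by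
    constructor
    · rintro ⟨t, ht⟩
      obtain ⟨t₀, rfl⟩ := (bcEquiv f T' Z).surjective t
      refine ⟨t₀, (bcEquiv f T' G).injective ?_⟩
      rw [← ht, bcEquiv_comp]
    · rintro ⟨t₀, rfl⟩
      exact ⟨bcEquiv f T' Z t₀, bcEquiv_comp f T' t₀ z⟩
  rw [h2, h1]
  refine forall_congr' fun γ => ?_
  rw [toUnit_bcHom, ← map_mul, ← map_mul, (bcEquiv f T' G).injective.eq_iff]

end bc

variable (F : Facts.{u}) {G C : Over S} [GrpObj G] [GrpObj C] [Smooth G.hom] [QuasiCompact G.hom]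
  [GeometricallyIrreducible G.hom] [IsSeparated G.hom] {c : C ⟶ G} [Finite Γ]

omit [GrpObj G] [GrpObj C] [Smooth G.hom] [QuasiCompact G.hom] [GeometricallyIrreducible G.hom] in
lemma isSeparated_of_mono [Mono c] : IsSeparated C.hom := by
  have : Mono c.left := inferInstanceAs (Mono ((Over.forget S).map c))
  rw [← Over.w c]
  infer_instance

omit [GrpObj G] [Smooth G.hom] [QuasiCompact G.hom] [GeometricallyIrreducible G.hom] [IsSeparated G.hom]
  [GrpObj C] in
lemma ne_zero_of_inv {n : ℕ} (hn : Inv n S) {K : Type u} [Field K] (x : Spec (CommRingCat.of K) ⟶ S) :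
    (n : K) ≠ 0 := by
  have := (hn.of_hom x).isUnit
  exact this.ne_zero

include F in
/-- Torsion `S`-points are central. -/
theorem central_pt (hc : SGA3x.IsCartan c) (φ : Γ →* (𝟙_ (Over S) ⟶ C)) (hn : Inv (Nat.card Γ) S)
    (T : Over S) (g : T ⟶ C) (γ : Γ) : g * (toUnit T ≫ φ γ) = (toUnit T ≫ φ γ) * g := by
  have hm := hc.1
  have hm' := hc.2.1
  have hs := hc.2.2.1
  have hsep : IsSeparated C.hom := isSeparated_of_mono (c := c)
  obtain ⟨Z, hZ, z, hz, hzc, hZs, hcent⟩ := exists_cent hn φ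
  have hzm : Mono z := Over.mono_of_mono_left z
  have hiso : IsIso z := by
    refine isIso_of_points z fun s => ?_
    refine ⟨_, inferInstance, Red.geomPt s, ?_, ?_⟩
    · rw [Red.geomPt, Scheme.Hom.comp_apply]
      exact Scheme.fromSpecResidueField_apply _ _
    · set x := Red.geomPt s
      have h1 := isCent_bc x hcent
      have hC := F.point S G C fibre_conn c hc _ x
      obtain ⟨t, ht⟩ := (h1 _ (𝟙 (Red.bc x C))).2 fun γ' => by
        refine F.cent _ _ _ _ hC (Nat.card Γ) (ne_zero_of_inv hn x) (bcHom x φ γ') ?_ _ _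
        rw [← map_pow, pow_card_eq_one', map_one]
      have hmx : Mono ((Over.pullback x).map z) := inferInstance
      refine ⟨t, ?_, ht⟩
      rw [← cancel_mono ((Over.pullback x).map z), Category.assoc, ht, Category.id_comp]
      exact Category.comp_id _
  exact (hcent T g).1 ⟨g ≫ CategoryTheory.inv z, by simp⟩ γ

include F in
/-- **Torsion points of Cartan subgroups are central.** -/
theorem central (hc : SGA3x.IsCartan c) {Y : Over S} (φ : Γ →* (Y ⟶ C)) (hn : Inv (Nat.card Γ) Y.left) :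
    Central φ := by
  intro T t q γ
  have hc' := isCartan_bc F hc T.hom
  have h1 := central_pt F hc' ((toPt C T).toMonoidHom.comp (pb t φ)) (hn.of_hom t.left) _ (toPt C T q) γ
  have h2 : toUnit (𝟙_ (Over T.left)) = 𝟙 _ := toUnit_unique _ _
  rw [h2, Category.id_comp] at h1
  have h3 : ((toPt C T).toMonoidHom.comp (pb t φ)) γ = toPt C T (t ≫ φ γ) := rfl
  rw [h3, ← map_mul, ← map_mul] at h1
  exact (toPt C T).injective h1

end Groth.Agent.Sga3.H773.CartCent
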