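import Groth.Agent.Sga3C.GrpBasic
import Mathlib.AlgebraicGeometry.Geometrically.Irreducible
import Mathlib.CategoryTheory.Monoidal.Cartesian.Over

/-!
# Groups with geometrically irreducible fibres are generated by every open part containing the unit

`forall_of_open`: a condition on points of a group scheme `A` with geometrically irreducible fibres over `S`, which is
represented by open subschemes, holds for the unit and is stable under products, holds for all points.
-/

set_option autoImplicit false
universe u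
open CategoryTheory MonoidalCategory CartesianMonoidalCategory MonObj GrpObj AlgebraicGeometry Limits

namespace Groth.Agent.Sga3.H773.IrrPts

variable {S : Scheme.{u}}

/-- The spectrum of the residue field at a point. -/
noncomputable def rp (T : Over S) (p : T.left) : Over S := Over.mk (T.left.fromSpecResidueField p ≫ T.hom)

/-- The inclusion of the spectrum of the residue field at a point. -/
noncomputable def rpι (T : Over S) (p : T.left) : rp T p ⟶ T := Over.homMk (T.left.fromSpecResidueField p) rfl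

lemma rpι_apply (T : Over S) (p : T.left) (z : (rp T p).left) : (rpι T p).left z = p :=
  Scheme.fromSpecResidueField_apply _ _

instance (T : Over S) (p : T.left) : Subsingleton (rp T p).left :=
  inferInstanceAs (Subsingleton (Spec (T.left.residueField p)))

instance (T : Over S) (p : T.left) : Nonempty (rp T p).left :=
  inferInstanceAs (Nonempty (Spec (T.left.residueField p)))

variable {A : Over S} [GrpObj A]

lemma irreducibleSpace_tensor [GeometricallyIrreducible A.hom] (Q : Over S) [Subsingleton Q.left]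
    [Nonempty Q.left] : IrreducibleSpace (A ⊗ Q).left :=
  GeometricallyIrreducible.irreducibleSpace_of_subsingleton (pullback.snd A.hom Q.hom)

variable {T₀ : Over S} (P : ∀ T : Over S, (T ⟶ T₀) → (T ⟶ A) → Prop)

/-- **The irreducibility principle.** -/
theorem forall_of_open [GeometricallyIrreducible A.hom] (h1 : ∀ (T : Over S) (t : T ⟶ T₀), P T t 1)
    (hmul : ∀ (T : Over S) (t : T ⟶ T₀) (a b : T ⟶ A), P T t a → P T t b → P T t (a * b))
    (hopen : ∀ (T : Over S) (t : T ⟶ T₀) (a : T ⟶ A), ∃ V : T.left.Opens, ∀ (T' : Over S) (v : T' ⟶ T),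
      P T' (v ≫ t) (v ≫ a) ↔ ∀ p : T'.left, v.left p ∈ V)
    (T : Over S) (t : T ⟶ T₀) (a : T ⟶ A) : P T t a := by
  -- it suffices to check on spectra of fields
  wlog hT : Subsingleton T.left ∧ Nonempty T.left generalizing T
  · obtain ⟨V, hV⟩ := hopen T t a
    have h2 := (hV T (𝟙 T)).2 fun p => by
      have h3 := this (rp T p) (rpι T p ≫ t) (rpι T p ≫ a) ⟨inferInstance, inferInstance⟩
      rw [hV] at h3
      have h4 := h3 (Classical.arbitrary _)
      rwa [rpι_apply] at h4
    rwa [Category.id_comp, Category.id_comp] at h2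
  obtain ⟨hT1, hT2⟩ := hT
  have hirr : IrreducibleSpace (A ⊗ T).left := irreducibleSpace_tensor T
  obtain ⟨V, hV⟩ := hopen (A ⊗ T) (snd A T ≫ t) (fst A T)
  let w : A ⊗ T ⟶ A ⊗ T := lift ((fst A T)⁻¹ * (snd A T ≫ a)) (snd A T)
  have z₀ : T.left := Classical.arbitrary _
  -- the unit section is in `V`
  have hV1 : ∀ p, (lift 1 (𝟙 T) : T ⟶ A ⊗ T).left p ∈ V := by
    rw [← hV, lift_fst, lift_snd_assoc]
    exact h1 _ _
  have hne1 : (V : Set (A ⊗ T).left).Nonempty := ⟨_, hV1 z₀⟩
  have hne2 : (w.left ⁻¹' V : Set (A ⊗ T).left).Nonempty := by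
    refine ⟨(lift a (𝟙 T)).left z₀, ?_⟩
    have h2 : lift a (𝟙 T) ≫ w = lift 1 (𝟙 T) := by
      apply CartesianMonoidalCategory.hom_ext
      · rw [Category.assoc, lift_fst, lift_fst, comp_mul, GrpObj.comp_inv, lift_fst, lift_snd_assoc,
          Category.id_comp, inv_mul_cancel]
      · rw [Category.assoc, lift_snd, lift_snd, lift_snd]
    change w.left ((lift a (𝟙 T)).left z₀) ∈ V
    rw [← Scheme.Hom.comp_apply, ← Over.comp_left, h2]
    exact hV1 z₀
  obtain ⟨r, hr1, hr2⟩ := nonempty_preirreducible_inter V.isOpen (V.isOpen.preimage w.left.continuous) hne1 hne2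
  let ρ := rpι (A ⊗ T) r
  have h3 : P _ (ρ ≫ snd A T ≫ t) (ρ ≫ fst A T) := by
    rw [hV]
    intro p
    rw [rpι_apply]
    exact hr1
  have h4 : P _ ((ρ ≫ w) ≫ snd A T ≫ t) ((ρ ≫ w) ≫ fst A T) := by
    rw [hV]
    intro p
    rw [Over.comp_left, Scheme.Hom.comp_apply, rpι_apply]
    exact hr2
  have h5 : (ρ ≫ w) ≫ snd A T ≫ t = ρ ≫ snd A T ≫ t := by
    rw [Category.assoc, lift_snd_assoc]
  rw [h5] at h4
  have h6 := hmul _ _ _ _ h3 h4
  have h7 : (ρ ≫ fst A T) * ((ρ ≫ w) ≫ fst A T) = (ρ ≫ snd A T) ≫ a := by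
    rw [Category.assoc, lift_fst, ← comp_mul, mul_inv_cancel_left, Category.assoc]
  rw [h7, ← Category.assoc] at h6
  obtain ⟨V', hV'⟩ := hopen T t a
  rw [hV'] at h6
  have h8 := (hV' T (𝟙 T)).2 fun p => by
    have := h6 (Classical.arbitrary _)
    rwa [Subsingleton.elim ((ρ ≫ snd A T).left (Classical.arbitrary _)) ((𝟙 T : T ⟶ T).left p)] at this
  rwa [Category.id_comp, Category.id_comp] at h8

end Groth.Agent.Sga3.H773.IrrPts
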