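import Groth.Agent.Sga3.H773.RegLoc
import Groth.Agent.Sga3.H773.IrrPts
import Groth.Agent.Agf.H583.ConjSub

/-!
# Subgroups with conjugate regular homomorphisms are conjugate
-/

set_option autoImplicit false
universe u
open CategoryTheory MonoidalCategory CartesianMonoidalCategory MonObj GrpObj AlgebraicGeometry Limits

namespace Groth.Agent.Sga3.H773.ConjReg

open RegLoc IrrPts Groth.Agent.Agf.H583.ConjSub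

variable {S : Scheme.{u}} {G C₁ C₂ : Over S} [GrpObj G] [GrpObj C₁] [GrpObj C₂] (c₁ : C₁ ⟶ G) (c₂ : C₂ ⟶ G)
  [IsMonHom c₁] [IsMonHom c₂] {Γ : Type*} [Group Γ]

/-- `φ` is central. -/
def Central {C : Over S} [GrpObj C] {Y : Over S} (φ : Γ →* (Y ⟶ C)) : Prop :=
  ∀ (T : Over S) (t : T ⟶ Y) (q : T ⟶ C) (γ : Γ), q * (t ≫ φ γ) = (t ≫ φ γ) * q

omit [IsMonHom c₁] in
lemma conj_commute {Y : Over S} {φ₁ : Γ →* (Y ⟶ C₁)} {φ₂ : Γ →* (Y ⟶ C₂)} {h : Y ⟶ G}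
    (hφ : ∀ γ, h * (φ₁ γ ≫ c₁) * h⁻¹ = φ₂ γ ≫ c₂) {T : Over S} (t : T ⟶ Y) (g : T ⟶ G)
    (hg : ∀ γ, g * (t ≫ φ₁ γ ≫ c₁) = (t ≫ φ₁ γ ≫ c₁) * g) (γ : Γ) :
    ((t ≫ h) * g * (t ≫ h)⁻¹) * (t ≫ φ₂ γ ≫ c₂) = (t ≫ φ₂ γ ≫ c₂) * ((t ≫ h) * g * (t ≫ h)⁻¹) := by
  rw [← hφ, comp_mul, comp_mul, GrpObj.comp_inv]
  have := hg γ
  calc (t ≫ h) * g * (t ≫ h)⁻¹ * ((t ≫ h) * (t ≫ φ₁ γ ≫ c₁) * (t ≫ h)⁻¹)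
      = (t ≫ h) * (g * (t ≫ φ₁ γ ≫ c₁)) * (t ≫ h)⁻¹ := by group
    _ = (t ≫ h) * ((t ≫ φ₁ γ ≫ c₁) * g) * (t ≫ h)⁻¹ := by rw [this]
    _ = _ := by group

lemma Central.commute {C : Over S} [GrpObj C] (c : C ⟶ G) [IsMonHom c] {Y : Over S} {φ : Γ →* (Y ⟶ C)}
    (h : Central φ) {T : Over S} (t : T ⟶ Y) (q : T ⟶ C) (γ : Γ) :
    (q ≫ c) * (t ≫ φ γ ≫ c) = (t ≫ φ γ ≫ c) * (q ≫ c) := by
  rw [← Category.assoc t, ← MonObj.mul_comp, h, MonObj.mul_comp]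

/-- One inclusion. -/
theorem exists_of_reg [GeometricallyIrreducible C₁.hom] {Y : Over S} {φ₁ : Γ →* (Y ⟶ C₁)} {φ₂ : Γ →* (Y ⟶ C₂)}
    {h : Y ⟶ G} (hφ : ∀ γ, h * (φ₁ γ ≫ c₁) * h⁻¹ = φ₂ γ ≫ c₂) (hr₂ : Reg c₂ φ₂) (hc₁ : Central φ₁)
    (T : Over S) (t : T ⟶ Y) (q : T ⟶ C₁) :
    ∃ q' : T ⟶ C₂, q' ≫ c₂ = (t ≫ h) * (q ≫ c₁) * (t ≫ h)⁻¹ := by
  refine forall_of_open (A := C₁) (T₀ := Y)
    (fun T t q => ∃ q' : T ⟶ C₂, q' ≫ c₂ = (t ≫ h) * (q ≫ c₁) * (t ≫ h)⁻¹) ?_ ?_ ?_ T t q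
  · intro T t
    refine ⟨1, ?_⟩
    rw [MonObj.one_comp, MonObj.one_comp, _root_.mul_one, mul_inv_cancel]
  · rintro T t a b ⟨a', ha'⟩ ⟨b', hb'⟩
    refine ⟨a' * b', ?_⟩
    rw [MonObj.mul_comp, ha', hb', MonObj.mul_comp]
    group
  · intro T t a
    obtain ⟨V, hV⟩ := hr₂ T t ((t ≫ h) * (a ≫ c₁) * (t ≫ h)⁻¹)
      (conj_commute c₁ c₂ hφ t _ fun γ => hc₁.commute c₁ t a γ)
    refine ⟨V, fun T' v => ?_⟩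
    rw [← hV T' v, comp_mul, comp_mul, GrpObj.comp_inv, Category.assoc, Category.assoc]

/-- **Subgroups with conjugate regular homomorphisms are conjugate.** -/
theorem conjSub_of_reg [GeometricallyIrreducible C₁.hom] [GeometricallyIrreducible C₂.hom] {Y : Over S}
    {φ₁ : Γ →* (Y ⟶ C₁)} {φ₂ : Γ →* (Y ⟶ C₂)}
    {h : Y ⟶ G} (hφ : ∀ γ, h * (φ₁ γ ≫ c₁) * h⁻¹ = φ₂ γ ≫ c₂) (hr₁ : Reg c₁ φ₁) (hr₂ : Reg c₂ φ₂)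
    (hc₁ : Central φ₁) (hc₂ : Central φ₂) : ConjSub c₁ c₂ h := by
  intro T t
  refine ⟨fun q => ?_, fun q' => ?_⟩
  · obtain ⟨q', hq'⟩ := exists_of_reg c₁ c₂ hφ hr₂ hc₁ T t q
    exact ⟨q', hq'.symm⟩
  · obtain ⟨q, hq⟩ := exists_of_reg c₂ c₁ (h := h⁻¹) (φ₁ := φ₂) (φ₂ := φ₁) (fun γ => by
      rw [← hφ]; group) hr₁ hc₂ T t q'
    refine ⟨q, ?_⟩
    rw [hq, GrpObj.comp_inv]
    group

end Groth.Agent.Sga3.H773.ConjReg
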