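import Groth.Agent.Sga3.H773.CartanFacts
import Groth.Agent.Sga3B.MT.MemOps

/-!
# Cartan subgroups of base changes of a group scheme, in terms of membership of points
-/

set_option autoImplicit false
universe u
open CategoryTheory MonoidalCategory CartesianMonoidalCategory MonObj GrpObj AlgebraicGeometry Limits

namespace Groth.Agent.Sga3.H773.FamCart

open Groth.Agent.Sga3B Groth.Agent.Sga3B.RedIso Groth.Agent.Sga3B.BcPts Groth.Agent.Sga3B.MT CartanFacts
  Groth.Agent.Agf.H583.ConjSub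

variable {S S' S'' : Scheme.{u}}

/-- Invariance of Cartan subgroups under isomorphisms. -/
theorem isCartan_of_arrow {G C G₁ C₁ : Over S} [GrpObj G] [GrpObj C] [GrpObj G₁] [GrpObj C₁] {c : C ⟶ G}
    {c₁ : C₁ ⟶ G₁} (φ : Grp.mk C ≅ Grp.mk C₁) (ψ : Grp.mk G ≅ Grp.mk G₁)
    (hc : c ≫ (und ψ).hom = (und φ).hom ≫ c₁) (h : SGA3x.IsCartan c) : SGA3x.IsCartan c₁ := by
  obtain ⟨h1, h2, h3, h4⟩ := h
  have e : c₁ = (und φ).inv ≫ c ≫ (und ψ).hom := by rw [hc, Iso.inv_hom_id_assoc]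
  have hm1 : IsMonHom c₁ := by rw [e]; infer_instance
  have hm2 : Mono c₁ := by rw [e]; infer_instance
  refine ⟨hm1, hm2, ?_, fun s => ?_⟩
  · have h5 : (und φ).inv.left ≫ C.hom = C₁.hom := Over.w (und φ).inv
    rw [← h5]
    have : IsIso (und φ).inv.left := inferInstanceAs (IsIso ((Over.forget S).map (und φ).inv))
    infer_instance
  · refine isCartanOver_of_arrow (BcIso.bcMapIso (Red.geomPt s) φ) (BcIso.bcMapIso (Red.geomPt s) ψ) ?_ (h4 s)
    have h6 := congrArg (fun k => (Over.pullback (Red.geomPt s)).map k) hc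
    simp only [Functor.map_comp] at h6
    exact h6

section

variable {f : S' ⟶ S} {G : Over S} [GrpObj G] {C C₁ : Over S'} [GrpObj C] [GrpObj C₁]

/-- The subgroup obtained by base change. -/
noncomputable def bcs (q : S'' ⟶ S') {f' : S'' ⟶ S} (h : q ≫ f = f') (c : C ⟶ Red.bc f G) :
    Red.bc q C ⟶ Red.bc f' G :=
  (Over.pullback q).map c ≫ (und ((BcIso.bcCompIso q f G).symm ≪≫ BcIso.bcCongrIso h G)).hom

omit [GrpObj C] in
lemma bcs_rfl (q : S'' ⟶ S') (c : C ⟶ Red.bc f G) : bcs q rfl c = bcSub q c := by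
  have e : (und ((BcIso.bcCompIso q f G).symm ≪≫ BcIso.bcCongrIso rfl G)).hom =
      (Over.pullbackComp q f).inv.app G := by
    have h1 := BcNat.und_bcCompIso q f G
    have h0 : (BcIso.bcCompIso q f G).symm ≪≫ BcIso.bcCongrIso rfl G = (BcIso.bcCompIso q f G).symm := by
      have h00 : BcIso.bcCongrIso (rfl : q ≫ f = q ≫ f) G = Iso.refl _ := by simp [BcIso.bcCongrIso]
      rw [h00, Iso.trans_refl]
    have h2 : (und (BcIso.bcCompIso q f G).symm).hom ≫ (und (BcIso.bcCompIso q f G)).hom = 𝟙 _ := by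
      rw [BcNat.und_symm, Iso.inv_hom_id]
    rw [h1] at h2
    have h3 : (Over.pullbackComp q f).inv.app G ≫ (Over.pullbackComp q f).hom.app G = 𝟙 _ := by
      simp
    rw [h0]
    exact (cancel_mono ((Over.pullbackComp q f).hom.app G)).1 (h2.trans h3.symm)
  rw [bcs, e, bcSub]

instance isMonHom_bcs (q : S'' ⟶ S') {f' : S'' ⟶ S} (h : q ≫ f = f') (c : C ⟶ Red.bc f G) [IsMonHom c] :
    IsMonHom (bcs q h c) := by
  unfold bcs
  infer_instance

instance mono_bcs (q : S'' ⟶ S') {f' : S'' ⟶ S} (h : q ≫ f = f') (c : C ⟶ Red.bc f G) [Mono c] :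
    Mono (bcs q h c) := by
  unfold bcs
  infer_instance

omit [GrpObj C] in
/-- Membership in the base change. -/
lemma memAt_bcs {q : S'' ⟶ S'} {f' : S'' ⟶ S} (h : q ≫ f = f') (c : C ⟶ Red.bc f G) {X : Over S}
    (a : X ⟶ Over.mk f') (g : X ⟶ G) (k : Over.mk f' ⟶ Over.mk f) (hk : k.left = q) :
    MemAt (bcs q h c) a g ↔ MemAt c (a ≫ k) g := by
  subst h
  rw [bcs_rfl, memAt_bcSub]
  have : k = ovq q f := by
    ext1
    exact hk
  rw [this]

/-- The base change of a Cartan subgroup at a point with values in an algebraically closed field. -/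
theorem isCartanOver_bcs (F : Facts.{u}) [Smooth G.hom] [QuasiCompact G.hom] [GeometricallyIrreducible G.hom]
    {c : C ⟶ Red.bc f G} (hc : SGA3x.IsCartan c) {L : Type u} [Field L] [IsAlgClosed L]
    (q : Spec (CommRingCat.of L) ⟶ S') {f' : Spec (CommRingCat.of L) ⟶ S} (h : q ≫ f = f') :
    SGA3x.IsCartanOver L (bcs q h c) :=
  isCartanOver_of_arrow (Iso.refl _) ((BcIso.bcCompIso q f G).symm ≪≫ BcIso.bcCongrIso h G)
    (Category.id_comp _).symm (F.point S' (Red.bc f G) C fibre_conn c hc L q)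

/-- Base changes of Cartan subgroups are Cartan subgroups. -/
theorem isCartan_bcs (F : Facts.{u}) [Smooth G.hom] [QuasiCompact G.hom] [GeometricallyIrreducible G.hom]
    {c : C ⟶ Red.bc f G} (hc : SGA3x.IsCartan c) (q : S'' ⟶ S') {f' : S'' ⟶ S} (h : q ≫ f = f') :
    SGA3x.IsCartan (bcs q h c) :=
  isCartan_of_arrow (Iso.refl _) ((BcIso.bcCompIso q f G).symm ≪≫ BcIso.bcCongrIso h G)
    (Category.id_comp _).symm (isCartan_bc F hc q)

/-- Descent of the property of being a Cartan subgroup along surjective morphisms. -/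
theorem isCartan_of_bcs (F : Facts.{u}) [Smooth G.hom] [QuasiCompact G.hom] [GeometricallyIrreducible G.hom]
    {c : C ⟶ Red.bc f G} [IsMonHom c] [Mono c] [Smooth C.hom] (q : S'' ⟶ S') [Surjective q] {f' : S'' ⟶ S}
    (h : q ≫ f = f') (hc : SGA3x.IsCartan (bcs q h c)) : SGA3x.IsCartan c := by
  have hc' : SGA3x.IsCartan ((Over.pullback q).map c) := by
    refine isCartan_of_arrow (Iso.refl _) ((BcIso.bcCompIso q f G).symm ≪≫ BcIso.bcCongrIso h G).symm ?_ hc
    change bcs q h c ≫ (und ((BcIso.bcCompIso q f G).symm ≪≫ BcIso.bcCongrIso h G)).inv = 𝟙 _ ≫ _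
    rw [bcs, Category.assoc, Iso.hom_inv_id, Category.comp_id]
    exact (Category.id_comp _).symm
  refine F.of_points S' (Red.bc f G) C fibre_conn c fun s' => ?_
  obtain ⟨s'', rfl⟩ := q.surjective s'
  refine ⟨_, inferInstance, inferInstance, Red.geomPt s'' ≫ q, ?_, ?_⟩
  · rw [Scheme.Hom.comp_apply]
    congr 1
    rw [Red.geomPt, Scheme.Hom.comp_apply]
    exact Scheme.fromSpecResidueField_apply _ _
  · refine isCartanOver_of_arrow (BcIso.bcCompIso _ q C).symm (BcIso.bcCompIso _ q (Red.bc f G)).symm ?_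
      (F.point S'' (Red.bc q (Red.bc f G)) (Red.bc q C) fibre_conn _ hc' _ (Red.geomPt s''))
    exact (BcNat.comp_nat_inv _ _ _).symm

/-- Conjugates of Cartan subgroups are Cartan subgroups. -/
theorem isCartan_comp_cj {c : C ⟶ Red.bc f G} (hc : SGA3x.IsCartan c) (γ : Over.mk f ⟶ G) :
    SGA3x.IsCartan (c ≫ cj γ) := by
  have : IsMonHom (cjIso γ).hom := isMonHom_cj γ
  refine isCartan_of_arrow (Iso.refl _) (Grp.mkIso' (cjIso γ)) ?_ hc
  exact (Category.id_comp _).symm

/-- A subgroup with the same points as a Cartan subgroup is a Cartan subgroup. -/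
theorem isCartan_of_memAt_iff {c : C ⟶ Red.bc f G} {c₁ : C₁ ⟶ Red.bc f G} [IsMonHom c₁] [Mono c₁]
    (hc : SGA3x.IsCartan c)
    (h : ∀ (X : Over S) (a : X ⟶ Over.mk f) (g : X ⟶ G), MemAt c a g ↔ MemAt c₁ a g) : SGA3x.IsCartan c₁ := by
  have hm := hc.1
  have hm' := hc.2.1
  obtain ⟨i, hi⟩ : ∃ i : C ⟶ C₁, i ≫ c₁ = c := by
    rw [← MemAt.iff_of_over, ← h, MemAt.iff_of_over]
    exact ⟨𝟙 _, Category.id_comp _⟩
  obtain ⟨j, hj⟩ : ∃ j : C₁ ⟶ C, j ≫ c = c₁ := by
    rw [← MemAt.iff_of_over, h, MemAt.iff_of_over]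
    exact ⟨𝟙 _, Category.id_comp _⟩
  have hij : i ≫ j = 𝟙 _ := by
    rw [← cancel_mono c, Category.assoc, hj, hi, Category.id_comp]
  have hji : j ≫ i = 𝟙 _ := by
    rw [← cancel_mono c₁, Category.assoc, hi, hj, Category.id_comp]
  have hmon : IsMonHom i := by
    apply Groth.Agent.Sga3B.InfConjFam.isMonHom_of_mul
    intro T a b
    rw [← cancel_mono c₁, Category.assoc, hi, MonObj.mul_comp, MonObj.mul_comp, Category.assoc,
      Category.assoc, hi]
  have hmon' : IsMonHom (Iso.mk i j hij hji).hom := hmon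
  refine isCartan_of_arrow (Grp.mkIso' (Iso.mk i j hij hji)) (Iso.refl _) ?_ hc
  change c ≫ 𝟙 _ = i ≫ c₁
  rw [hi, Category.comp_id]

end

end Groth.Agent.Sga3.H773.FamCart
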