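import Groth.Agent.Sga3.H773.FamCart
import Groth.Agent.Sga3.H773.CartCent
import Groth.Agent.Sga3.H778.NeutralOpen

/-!
# Regular families of homomorphisms into a subgroup of a base change

`f : S' ⟶ S`, `c : C ⟶ bc f G` a subgroup over `S'`. Families of homomorphisms from a finite group `Γ` to `C` are
regarded as families of homomorphisms to `G` over `S`.
-/

set_option autoImplicit false
universe u
open CategoryTheory MonoidalCategory CartesianMonoidalCategory MonObj GrpObj AlgebraicGeometry Limits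

namespace Groth.Agent.Sga3.H773.FamReg

open Groth.Agent.Sga3B Groth.Agent.Sga3B.BcPts Groth.Agent.Sga3B.MT FamCart RegLoc IrrPts CartCent ConjReg
  Groth.Agent.Sga3.H797.HomFin Groth.Agent.Sga3.H778.NeutralOpen CartanFacts

variable {S S' : Scheme.{u}} {f : S' ⟶ S} {G : Over S} [GrpObj G] {C : Over S'} [GrpObj C]
  (c : C ⟶ Red.bc f G) {Γ : Type*} [Group Γ]

/-- The subgroup `C` is open in the centralizer of `ψ`. -/
def RegAt {T₀ : Over S} (x : T₀ ⟶ Over.mk f) (ψ : Γ →* (T₀ ⟶ G)) : Prop :=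
  ∀ (T : Over S) (t : T ⟶ T₀) (g : T ⟶ G), (∀ σ, g * (t ≫ ψ σ) = (t ≫ ψ σ) * g) →
    ∃ V : T.left.Opens, ∀ (T' : Over S) (v : T' ⟶ T),
      MemAt c (v ≫ t ≫ x) (v ≫ g) ↔ ∀ p : T'.left, v.left p ∈ V

omit [GrpObj C] in
variable {c} in
lemma RegAt.comp {T₀ T₁ : Over S} {x : T₀ ⟶ Over.mk f} {ψ : Γ →* (T₀ ⟶ G)} (h : RegAt c x ψ) (k : T₁ ⟶ T₀) :
    RegAt c (k ≫ x) (pb k ψ) := by
  intro T t g hg
  obtain ⟨V, hV⟩ := h T (t ≫ k) g fun σ => by
    have := hg σ
    rwa [pb_apply, ← Category.assoc] at this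
  refine ⟨V, fun T' v => ?_⟩
  rw [← hV T' v]
  simp only [Category.assoc]

/-- The map to the base of a `Y`-scheme. -/
noncomputable def tS {T₀ : Over S} (x : T₀ ⟶ Over.mk f) {T' : Over S'} (t' : T' ⟶ Over.mk x.left) :
    (Over.map f).obj T' ⟶ T₀ :=
  Over.homMk t'.left (by
    have h1 : t'.left ≫ x.left = T'.hom := Over.w t'
    have h2 : x.left ≫ f = T₀.hom := Over.w x
    rw [← h2, ← Category.assoc, h1]
    rfl)

omit [GrpObj G] in
lemma tS_comp {T₀ : Over S} (x : T₀ ⟶ Over.mk f) {T' : Over S'} (t' : T' ⟶ Over.mk x.left) :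
    tS x t' ≫ x = MemAt.strHom f T' := by
  ext1
  exact Over.w t'

/-- **The irreducibility principle for members of a family of subgroups.** -/
theorem forall_memAt [GeometricallyIrreducible C.hom] [IsMonHom c] {T₀ : Over S} (x : T₀ ⟶ Over.mk f)
    (P : ∀ T : Over S, (T ⟶ T₀) → (T ⟶ G) → Prop) (h1 : ∀ (T : Over S) (t : T ⟶ T₀), P T t 1)
    (hmul : ∀ (T : Over S) (t : T ⟶ T₀) (a b : T ⟶ G), P T t a → P T t b → P T t (a * b))
    (hopen : ∀ (T : Over S) (t : T ⟶ T₀) (a : T ⟶ G), MemAt c (t ≫ x) a → ∃ V : T.left.Opens,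
      ∀ (T' : Over S) (v : T' ⟶ T), P T' (v ≫ t) (v ≫ a) ↔ ∀ p : T'.left, v.left p ∈ V)
    (T : Over S) (t : T ⟶ T₀) (a : T ⟶ G) (ha : MemAt c (t ≫ x) a) : P T t a := by
  have key := forall_of_open (A := C) (T₀ := Over.mk x.left)
    (fun T' t' a' => P ((Over.map f).obj T') (tS x t') ((bcEquiv f T' G).symm (a' ≫ c))) ?_ ?_ ?_
  · obtain ⟨q, hq⟩ := (memAt_iff c _ _).1 ha
    have h2 := key (Over.mk (t ≫ x).left) (Over.homMk t.left rfl) q
    rw [hq] at h2
    have h3 : (bcEquiv f (Over.mk (t ≫ x).left) G).symm (bcPt (t ≫ x) a) = (overIso (t ≫ x)).hom ≫ a :=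
      Equiv.symm_apply_apply _ _
    have h4 : tS x (Over.homMk t.left rfl : Over.mk (t ≫ x).left ⟶ Over.mk x.left) =
        (overIso (t ≫ x)).hom ≫ t := by
      ext1
      exact (Category.id_comp _).symm
    simp only [h3, h4] at h2
    obtain ⟨V, hV⟩ := hopen T t a ha
    rw [hV] at h2
    have h5 := (hV T (𝟙 T)).2 h2
    rwa [Category.id_comp, Category.id_comp] at h5
  · intro T' t'
    have h2 : (bcEquiv f T' G).symm ((1 : T' ⟶ C) ≫ c) = 1 := by
      rw [MonObj.one_comp, Equiv.symm_apply_eq, bcEquiv_one]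
    simp only [h2]
    exact h1 _ _
  · intro T' t' a b ha hb
    have h2 : (bcEquiv f T' G).symm ((a * b) ≫ c) =
        (bcEquiv f T' G).symm (a ≫ c) * (bcEquiv f T' G).symm (b ≫ c) := by
      rw [MonObj.mul_comp, Equiv.symm_apply_eq, bcEquiv_mul, Equiv.apply_symm_apply, Equiv.apply_symm_apply]
    simp only [h2]
    exact hmul _ _ _ _ ha hb
  · intro T' t' a'
    obtain ⟨V, hV⟩ := hopen _ (tS x t') ((bcEquiv f T' G).symm (a' ≫ c)) (by
      rw [tS_comp, MemAt.iff_of_over]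
      exact ⟨a', rfl⟩)
    refine ⟨V, fun T'' v => ?_⟩
    have h2 := hV _ ((Over.map f).map v)
    have h3 : (Over.map f).map v ≫ (bcEquiv f T' G).symm (a' ≫ c) = (bcEquiv f T'' G).symm ((v ≫ a') ≫ c) := by
      rw [← comp_bcEquiv_symm, Category.assoc]
    have h4 : (Over.map f).map v ≫ tS x t' = tS x (v ≫ t') := by
      ext1
      rfl
    rw [h3, h4] at h2
    exact h2

/-- From regularity over `S'` to regularity over `S`. -/
theorem regAt_of_reg {T' : Over S'} {φ : Γ →* (T' ⟶ C)} (h : Reg c φ) (ψ : Γ →* ((Over.map f).obj T' ⟶ G))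
    (hψ : ∀ σ, ψ σ = (bcEquiv f T' G).symm (φ σ ≫ c)) : RegAt c (MemAt.strHom f T') ψ := by
  intro T t g hg
  let y : Over.mk (t ≫ MemAt.strHom f T').left ⟶ T' := Over.homMk t.left rfl
  have hy : (overIso (t ≫ MemAt.strHom f T')).hom ≫ t = (Over.map f).map y := by
    ext1
    exact Category.id_comp _
  have hval : ∀ σ, bcPt (t ≫ MemAt.strHom f T') (t ≫ ψ σ) = y ≫ φ σ ≫ c := by
    intro σ
    rw [bcPt, hψ, ← Category.assoc, hy, comp_bcEquiv, Equiv.apply_symm_apply]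
  obtain ⟨V, hV⟩ := h _ y (bcPt (t ≫ MemAt.strHom f T') g) fun σ => by
    rw [← hval, ← bcPt_mul, ← bcPt_mul, hg]
  refine ⟨V, fun T₁ v => ?_⟩
  rw [memAt_iff, bcPt_comp]
  exact hV _ (ovMap v (t ≫ MemAt.strHom f T'))

/-- From regularity over `S` to regularity over `S'`. -/
theorem reg_of_regAt {T₀ : Over S} {x : T₀ ⟶ Over.mk f} {ψ : Γ →* (T₀ ⟶ G)} (h : RegAt c x ψ)
    (φ : Γ →* (Over.mk x.left ⟶ C)) (hφ : ∀ σ, φ σ ≫ c = bcPt x (ψ σ)) : Reg c φ := by
  intro T' t' g hg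
  let gg := (bcEquiv f T' G).symm g
  have hval : ∀ σ, (bcEquiv f T' G).symm (t' ≫ φ σ ≫ c) = tS x t' ≫ ψ σ := by
    intro σ
    rw [hφ, Equiv.symm_apply_eq, bcPt, ← comp_bcEquiv, ← Category.assoc]
    congr 2
  obtain ⟨V, hV⟩ := h _ (tS x t') gg fun σ => by
    rw [← hval, ← (bcEquiv f T' G).injective.eq_iff, bcEquiv_mul, bcEquiv_mul, Equiv.apply_symm_apply,
      Equiv.apply_symm_apply]
    exact hg σ
  refine ⟨V, fun T'' v => ?_⟩
  have h2 := hV _ ((Over.map f).map v)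
  have h3 : (Over.map f).map v ≫ gg = (bcEquiv f T'' G).symm (v ≫ g) := (comp_bcEquiv_symm f v g).symm
  have h4 : (Over.map f).map v ≫ tS x t' ≫ x = MemAt.strHom f T'' := by
    rw [tS_comp]
    ext1
    exact Over.w v
  rw [h3, h4, MemAt.iff_of_over] at h2
  exact h2

end Groth.Agent.Sga3.H773.FamReg
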