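import Groth.Agent.Sga3.H773.FamReg

/-!
# The universal regular family of homomorphisms into a Cartan subgroup over a base change
-/

set_option autoImplicit false
universe u
open CategoryTheory MonoidalCategory CartesianMonoidalCategory MonObj GrpObj AlgebraicGeometry Limits

namespace Groth.Agent.Sga3.H773.FamUniv

open Groth.Agent.Sga3B Groth.Agent.Sga3B.BcPts Groth.Agent.Sga3B.MT FamCart RegLoc IrrPts CartCent ConjReg
  Groth.Agent.Sga3.H797.HomFin Groth.Agent.Sga3.H778.NeutralOpen CartanFacts FamReg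

variable {S S' : Scheme.{u}} {f : S' ⟶ S} {G : Over S} [GrpObj G] {C : Over S'} [GrpObj C]
  {c : C ⟶ Red.bc f G} {Γ : Type*} [Group Γ]

omit [GrpObj G] in
lemma bcPt_injective {X : Over S} (a : X ⟶ Over.mk f) : Function.Injective (bcPt a : (X ⟶ G) → _) := by
  intro g g' h
  have h2 := (bcEquiv f _ G).injective h
  exact (cancel_epi (overIso a).hom).1 h2

/-- A family of members as a family of points of the subgroup. -/
lemma exists_hom [Mono c] [IsMonHom c] {T₀ : Over S} (x : T₀ ⟶ Over.mk f) (ψ : Γ →* (T₀ ⟶ G))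
    (hψ : ∀ σ, MemAt c x (ψ σ)) : ∃ φ : Γ →* (Over.mk x.left ⟶ C), ∀ σ, φ σ ≫ c = bcPt x (ψ σ) := by
  choose q hq using fun σ => (memAt_iff c _ _).1 (hψ σ)
  refine ⟨MonoidHom.mk' q fun a b => ?_, hq⟩
  rw [← cancel_mono c, MonObj.mul_comp, hq, hq, hq, map_mul, bcPt_mul]

variable [Smooth G.hom] [QuasiCompact G.hom] [GeometricallyIrreducible G.hom] [IsSeparated G.hom] [Finite Γ]

/-- Members of a Cartan subgroup commute with torsion members. -/
theorem commute_of_memAt (F : Facts.{u}) (hc : SGA3x.IsCartan c) (hn : Inv (Nat.card Γ) S')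
    {T₀ : Over S} (x : T₀ ⟶ Over.mk f) (ψ : Γ →* (T₀ ⟶ G)) (hψ : ∀ σ, MemAt c x (ψ σ))
    (T : Over S) (t : T ⟶ T₀) (g : T ⟶ G) (hg : MemAt c (t ≫ x) g) (σ : Γ) :
    g * (t ≫ ψ σ) = (t ≫ ψ σ) * g := by
  have hm := hc.1
  have hm' := hc.2.1
  obtain ⟨φ, hφ⟩ := exists_hom x ψ hψ
  obtain ⟨q, hq⟩ := (memAt_iff c _ _).1 hg
  have h1 := central F hc φ (hn.of_hom x.left) _ (ovMap t x) q σ
  have h2 := congrArg (fun k => k ≫ c) h1
  simp only [MonObj.mul_comp, Category.assoc, hφ, hq] at h2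
  rw [← bcPt_comp, ← bcPt_mul, ← bcPt_mul] at h2
  exact bcPt_injective _ h2

/-- **The universal regular family.** -/
theorem exists_univ (F : Facts.{u}) (hc : SGA3x.IsCartan c) (hn : Inv (Nat.card Γ) S') :
    ∃ (Y : Over S) (r : Y ⟶ Over.mk f) (φ : Γ →* (Y ⟶ G)), Smooth r.left ∧ (∀ σ, MemAt c r (φ σ)) ∧
      RegAt c r φ ∧ ∀ (T₀ : Over S) (x : T₀ ⟶ Over.mk f) (ψ : Γ →* (T₀ ⟶ G)), (∀ σ, MemAt c x (ψ σ)) →
        RegAt c x ψ → ∃ y : T₀ ⟶ Y, y ≫ r = x ∧ ∀ σ, y ≫ φ σ = ψ σ := by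
  have hm := hc.1
  have hm' := hc.2.1
  have hs := hc.2.2.1
  have hsep : IsSeparated C.hom := isSeparated_of_mono (c := c)
  obtain ⟨H, υ, hH, hHsep, hHlfp, -⟩ := exists_rep C Γ
  have hlfp := hHlfp inferInstance
  have hsm := smooth_rep hH hn
  obtain ⟨U, hU⟩ := exists_locus c υ (hn.of_hom H.hom) (central F hc υ (hn.of_hom H.hom))
  let Y' : Over S' := opn H U
  have hregY : Reg c (pb (opnι H U) υ) := by
    rw [hU]
    exact fun p => p.2
  let φ : Γ →* ((Over.map f).obj Y' ⟶ G) :=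
    MonoidHom.mk' (fun σ => (bcEquiv f Y' G).symm (pb (opnι H U) υ σ ≫ c)) fun a b => by
      rw [map_mul, MonObj.mul_comp, Equiv.symm_apply_eq, bcEquiv_mul, Equiv.apply_symm_apply,
        Equiv.apply_symm_apply]
  refine ⟨(Over.map f).obj Y', MemAt.strHom f Y', φ, ?_, fun σ => ?_, regAt_of_reg c hregY φ fun σ => rfl, ?_⟩
  · change Smooth (U.ι ≫ H.hom)
    infer_instance
  · change MemAt c (MemAt.strHom f Y') ((bcEquiv f Y' G).symm (pb (opnι H U) υ σ ≫ c))
    rw [MemAt.iff_of_over]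
    exact ⟨_, rfl⟩
  · intro T₀ x ψ hψ hreg
    obtain ⟨q, hq⟩ := exists_hom x ψ hψ
    obtain ⟨τ, hτ, -⟩ := hH.existsUnique _ q
    have hregq : Reg c (pb τ υ) := by
      have : pb τ υ = q := MonoidHom.ext hτ
      rw [this]
      exact reg_of_regAt c hreg q hq
    rw [hU] at hregq
    obtain ⟨τ', hτ'⟩ := exists_lift U τ hregq
    refine ⟨(overIso x).inv ≫ (Over.map f).map τ', ?_, fun σ => ?_⟩
    · ext1
      change (𝟙 _ ≫ τ'.left) ≫ Y'.hom = x.left
      rw [Category.id_comp]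
      exact Over.w τ'
    · change ((overIso x).inv ≫ (Over.map f).map τ') ≫ (bcEquiv f Y' G).symm (pb (opnι H U) υ σ ≫ c) = ψ σ
      rw [Category.assoc, ← comp_bcEquiv_symm, Iso.inv_comp_eq, Equiv.symm_apply_eq, ← Category.assoc,
        pb_apply, ← Category.assoc, hτ', hτ]
      exact hq σ

end Groth.Agent.Sga3.H773.FamUniv
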