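import Groth.Agent.Sga3.H797.HomFin

/-!
# Transporters and centralizers of finite groups of points of invertible order

* `exists_transp`: the transporter of two families of homomorphisms from `Γ` to `G` is smooth;
* `exists_cent`: the centralizer of a homomorphism from `Γ` to `G(S)` is a smooth closed subgroup.
-/

set_option autoImplicit false
universe u
open CategoryTheory MonoidalCategory CartesianMonoidalCategory MonObj GrpObj AlgebraicGeometry Limits

namespace Groth.Agent.Sga3.H773.FinCent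

open Groth.Agent.Sga3.H797.HomFin

variable {S : Scheme.{u}} {G : Over S} [GrpObj G] {Γ : Type*} [Group Γ] [Finite Γ]

/-- The transporter of two families of homomorphisms. -/
theorem exists_transp [Smooth G.hom] [IsSeparated G.hom] (hn : Inv (Nat.card Γ) S) {Y : Over S}
    (φ₁ φ₂ : Γ →* (Y ⟶ G)) :
    ∃ (P : Over S) (p : P ⟶ Y) (h : P ⟶ G), Smooth p.left ∧ IsClosedImmersion (lift h p).left ∧
      (∀ γ, h * (p ≫ φ₁ γ) * h⁻¹ = p ≫ φ₂ γ) ∧
      ∀ (T : Over S) (t : T ⟶ Y) (g : T ⟶ G), (∀ γ, g * (t ≫ φ₁ γ) * g⁻¹ = t ≫ φ₂ γ) →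
        ∃ q : T ⟶ P, q ≫ p = t ∧ q ≫ h = g := by
  obtain ⟨H, υ, hH, hsep, hlfp, -⟩ := exists_rep G Γ
  have h1 := hlfp inferInstance
  -- the conjugation map
  let ψ : Γ →* (G ⊗ Y ⟶ G) := MonoidHom.mk' (fun γ => fst G Y * (snd G Y ≫ φ₁ γ) * (fst G Y)⁻¹) fun a b => by
    rw [map_mul, comp_mul]
    group
  obtain ⟨o₁, ho₁, -⟩ := hH.existsUnique _ ψ
  let o : G ⊗ Y ⟶ H ⊗ Y := lift o₁ (snd G Y)
  have hsm : Smooth o.left := smooth_orbit hH hn φ₁ o (lift_snd _ _) fun γ => by
    rw [← Category.assoc, lift_fst, ho₁]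
    rfl
  obtain ⟨t₂, ht₂, -⟩ := hH.existsUnique _ φ₂
  let σ : Y ⟶ H ⊗ Y := lift t₂ (𝟙 Y)
  have hσ : IsClosedImmersion σ.left := by
    have : IsSeparated (snd H Y).left := inferInstanceAs (IsSeparated (pullback.snd H.hom Y.hom))
    have h2 : σ.left ≫ (snd H Y).left = 𝟙 _ := congrArg CommaMorphism.left (lift_snd t₂ (𝟙 Y))
    have h3 : IsClosedImmersion (σ.left ≫ (snd H Y).left) := by
      rw [h2]; infer_instance
    exact IsClosedImmersion.of_comp σ.left (snd H Y).left
  have hpb := IsPullback.of_hasPullback o σ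
  have hpb' := Groth.Agent.Sga3B.CentRep.isPullback_left hpb
  have hfst : lift (pullback.fst o σ ≫ fst G Y) (pullback.snd o σ) = pullback.fst o σ := by
    apply CartesianMonoidalCategory.hom_ext
    · rw [lift_fst]
    · rw [lift_snd]
      have h2 := congrArg (fun f => f ≫ snd H Y) hpb.w
      simp only [Category.assoc, o, σ, lift_snd, Category.comp_id] at h2
      exact h2.symm
  refine ⟨pullback o σ, pullback.snd o σ, pullback.fst o σ ≫ fst G Y,
    MorphismProperty.of_isPullback hpb' hsm, ?_, ?_, ?_⟩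
  · rw [hfst]
    exact MorphismProperty.of_isPullback hpb'.flip hσ
  · intro γ
    have h2 := congrArg (fun f => f ≫ fst H Y ≫ υ γ) hpb.w
    simp only [Category.assoc, o, σ, lift_fst_assoc, ho₁, ht₂] at h2
    rw [← h2]
    have h4 : pullback.snd o σ = pullback.fst o σ ≫ snd G Y := by
      conv_rhs => rw [← hfst]
      rw [lift_snd]
    change _ = pullback.fst o σ ≫ (fst G Y * (snd G Y ≫ φ₁ γ) * (fst G Y)⁻¹)
    rw [comp_mul, comp_mul, GrpObj.comp_inv, h4, Category.assoc]
  · intro T t g hg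
    have h5 : lift g t ≫ o = t ≫ σ := by
      apply CartesianMonoidalCategory.hom_ext
      · refine (hH.existsUnique T ((Groth.Agent.Sga3.H797.InfChart.pre G t).comp φ₂)).unique (fun γ => ?_) (fun γ => ?_)
        · rw [Category.assoc, Category.assoc, lift_fst_assoc, ho₁]
          change lift g t ≫ (fst G Y * (snd G Y ≫ φ₁ γ) * (fst G Y)⁻¹) = t ≫ φ₂ γ
          rw [comp_mul, comp_mul, GrpObj.comp_inv, lift_fst, lift_snd_assoc, hg]
        · rw [Category.assoc, Category.assoc, lift_fst_assoc, ht₂]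
          rfl
      · rw [Category.assoc, Category.assoc, lift_snd, lift_snd, lift_snd, Category.comp_id]
    refine ⟨pullback.lift (lift g t) t h5, pullback.lift_snd _ _ _, ?_⟩
    rw [pullback.lift_fst_assoc, lift_fst]

/-- `z : Z ⟶ G` is the centralizer of `φ`. -/
def IsCent (φ : Γ →* (𝟙_ (Over S) ⟶ G)) {Z : Over S} (z : Z ⟶ G) : Prop :=
  ∀ (T : Over S) (g : T ⟶ G), (∃ t : T ⟶ Z, t ≫ z = g) ↔
    ∀ γ, g * (toUnit T ≫ φ γ) = (toUnit T ≫ φ γ) * g

/-- **The centralizer.** -/
theorem exists_cent [Smooth G.hom] [IsSeparated G.hom] (hn : Inv (Nat.card Γ) S)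
    (φ : Γ →* (𝟙_ (Over S) ⟶ G)) :
    ∃ (Z : Over S) (_ : GrpObj Z) (z : Z ⟶ G), IsMonHom z ∧ IsClosedImmersion z.left ∧ Smooth Z.hom ∧
      IsCent φ z := by
  obtain ⟨P, p, h, hp, hcl, hu, huniv⟩ := exists_transp hn φ φ
  have hc : IsClosedImmersion h.left := by
    have e : (lift h p).left ≫ (fst G (𝟙_ (Over S))).left = h.left :=
      congrArg CommaMorphism.left (lift_fst h p)
    have : IsIso (fst G (𝟙_ (Over S))).left := by
      have h1 : IsIso (fst G (𝟙_ (Over S))) := by
        rw [← rightUnitor_hom]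
        infer_instance
      exact inferInstanceAs (IsIso ((Over.forget S).map (fst G (𝟙_ (Over S)))))
    rw [← e]
    infer_instance
  have hm : Mono h := Over.mono_of_mono_left h
  have hcent : IsCent φ h := by
    intro T g
    constructor
    · rintro ⟨t, rfl⟩ γ
      have h1 := congrArg (fun f => t ≫ f) (hu γ)
      have h2 : t ≫ p = toUnit T := toUnit_unique _ _
      simp only [comp_mul, GrpObj.comp_inv, ← Category.assoc, h2] at h1
      rw [mul_inv_eq_iff_eq_mul] at h1
      simpa using h1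
    · intro hg
      obtain ⟨q, -, hq⟩ := huniv T (toUnit T) g fun γ => by rw [hg γ, mul_inv_cancel_right]
      exact ⟨q, hq⟩
  let sub : ∀ T : Over S, Subgroup (T ⟶ G) := fun T =>
    { carrier := {g | ∀ γ, g * (toUnit T ≫ φ γ) = (toUnit T ≫ φ γ) * g}
      mul_mem' := by
        intro a b ha hb γ
        rw [_root_.mul_assoc, hb, ← _root_.mul_assoc, ha, _root_.mul_assoc]
      one_mem' := by
        intro γ
        rw [_root_.one_mul, _root_.mul_one]
      inv_mem' := by
        intro a ha γ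
        have := ha γ
        rw [inv_mul_eq_iff_eq_mul, ← _root_.mul_assoc, this, mul_inv_cancel_right] }
  obtain ⟨hZ, hz⟩ := Groth.Agent.Sga3B.CentRep.exists_grpObj h sub hcent
  refine ⟨P, hZ, h, hz, hc, ?_, hcent⟩
  have : P.hom = p.left := by
    have h1 := Over.w p
    rw [← h1]
    exact Category.comp_id _
  rw [this]
  exact hp

end Groth.Agent.Sga3.H773.FinCent
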