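import Groth.Agent.Sga3.H799.FibCrit
import Groth.Agent.Sga3.H778.NeutralPts
import Groth.Agent.Sga3C.FlatHomog
import Groth.Agent.S0386

/-!
# The flat locus of a homomorphism of group schemes

`u : H ⟶ Z` a homomorphism of group schemes over `S`, `H` flat and locally of finite presentation, `Z` locally of
finite type over `S`.

* `isFlatAt_of_point`: flatness at a point of `H` can be checked over a field-valued point of `S`;
* `isFlatAt_of_unit`: if `u` is flat at the unit point over `s`, it is flat at all points over `s`;
* `locus`: the open set of points of `S` over which `u` is flat;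
* `flat_bc_iff`: the base change of `u` to `S'` is flat iff `S' ⟶ S` factors through `locus`.
-/

set_option autoImplicit false
universe u
open CategoryTheory MonoidalCategory CartesianMonoidalCategory MonObj GrpObj AlgebraicGeometry Limits

namespace Groth.Agent.Sga3.H773.FlatLoc

open Groth.Agent.Sga3C.FlatPt Groth.Agent.Sga3C.GrpBasic Groth.Agent.Sga3.H799.FibCrit
  Groth.Agent.Sga3.H778.NeutralPts
open Groth.Agent.Sga3B.Parab.FibIsoSch (isPullback_map_left)

variable {S : Scheme.{u}}

lemma isFlatAt_of_fiber {X Y : Scheme.{u}} (g : Y ⟶ S) (h : X ⟶ S)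
    [LocallyOfFiniteType g] [LocallyOfFinitePresentation h] [Flat h]
    (f : X ⟶ Y) (w : f ≫ g = h) (x : X) (hf : Flat (pullback.snd f (g.fiberι (h x)))) :
    IsFlatAt f x := by
  subst w
  rw [isFlatAt_iff_stalkMap]
  have h1 : Flat (MoreMor.fiberMap f g (g (f x))) := by
    rw [← (UnramA.FibreMap.isPullback_fiberMap f g (g (f x))).isoPullback_hom_snd]
    have : Flat (pullback.snd f (g.fiberι (g (f x)))) := hf
    infer_instance
  exact (((Groth.Agent.S1386.result f g).1 x).mp ⟨Flat.stalkMap _ _, Flat.stalkMap _ _⟩).2

/-- The fibre of a morphism over `S` at a point is flat if the base change to a field-valued point above it is. -/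
lemma flat_fiber_of_point {X Y : Over S} (f : X ⟶ Y) (s : S) {K : Type u} [Field K]
    (x : Spec (CommRingCat.of K) ⟶ S) (hx : x (IsLocalRing.closedPoint K) = s)
    (hf : Flat ((Over.pullback x).map f).left) : Flat (pullback.snd f.left (Y.hom.fiberι s)) := by
  obtain ⟨φ, hφ⟩ := exists_factor_residueField x s hx
  have hsq := isPullback_map_left x f
  let m : (Red.bc x Y).left ⟶ Y.hom.fiber s :=
    pullback.map Y.hom x Y.hom (S.fromSpecResidueField s) (𝟙 _) (Spec.map φ) (𝟙 _) (by simp) (by simp [hφ])
  have hm1 : m ≫ Y.hom.fiberι s = pullback.fst Y.hom x := by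
    exact (pullback.lift_fst _ _ _).trans (Category.comp_id _)
  have hm2 : m ≫ Y.hom.fiberToSpecResidueField s = pullback.snd Y.hom x ≫ Spec.map φ := by
    exact pullback.lift_snd _ _ _
  have hY : IsPullback m (pullback.snd Y.hom x) (Y.hom.fiberToSpecResidueField s) (Spec.map φ) := by
    refine IsPullback.of_right ?_ hm2 (IsPullback.of_hasPullback Y.hom (S.fromSpecResidueField s))
    change IsPullback (m ≫ Y.hom.fiberι s) _ _ _
    rw [hm1, hφ]
    exact IsPullback.of_hasPullback Y.hom x
  have hφ1 : Flat (Spec.map φ) := by
    rw [Flat.SpecMap_iff]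
    exact RingHom.Flat.of_isField (Field.toIsField _) _
  have hφ2 : Surjective (Spec.map φ) := by
    constructor
    intro y
    exact ⟨IsLocalRing.closedPoint _, Subsingleton.elim (α := PrimeSpectrum _) _ _⟩
  have hm3 : Flat m := MorphismProperty.of_isPullback hY.flip inferInstance
  have hm4 : Surjective m := MorphismProperty.of_isPullback hY.flip inferInstance
  rw [← hm1] at hsq
  have hsq' := IsPullback.of_right' hsq (IsPullback.of_hasPullback f.left (Y.hom.fiberι s))
  set n := (IsPullback.of_hasPullback f.left (Y.hom.fiberι s)).lift (pullback.fst X.hom x)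
    (((Over.pullback x).map f).left ≫ m) (by rw [Category.assoc]; exact hsq.w) with hn
  have hn1 : Flat n := MorphismProperty.of_isPullback hsq'.flip hm3
  have hn2 : Surjective n := MorphismProperty.of_isPullback hsq'.flip hm4
  have : Flat (n ≫ pullback.snd f.left (Y.hom.fiberι s)) := by
    rw [hsq'.w]
    infer_instance
  exact Flat2F.FlatComp.flat_of_flat_comp_of_flat_surjective n _

/-- **Flatness at a point, over a field-valued point of the base.** -/
theorem isFlatAt_of_point {X Y : Over S} (f : X ⟶ Y) [Flat X.hom] [LocallyOfFinitePresentation X.hom]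
    [LocallyOfFiniteType Y.hom] (x : X.left) {K : Type u} [Field K] (p : Spec (CommRingCat.of K) ⟶ S)
    (hp : p (IsLocalRing.closedPoint K) = X.hom x) (h : Flat ((Over.pullback p).map f).left) :
    IsFlatAt f.left x :=
  isFlatAt_of_fiber Y.hom X.hom f.left (Over.w f) x (flat_fiber_of_point f _ p hp h)

section Group

variable {H Z : Over S} [GrpObj H] [GrpObj Z] (u : H ⟶ Z) [IsMonHom u]

lemma shear_comm : (H ◁ u) ≫ (mulLeftShear u).hom = (mulLeftShear (𝟙 H)).hom ≫ (H ◁ u) := by
  apply CartesianMonoidalCategory.hom_ext
  · simp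
  · rw [Category.assoc, mulLeftShear_hom_snd, comp_mul, Category.assoc, whiskerLeft_snd,
      whiskerLeft_fst_assoc, ← Category.assoc (mulLeftShear (𝟙 H)).hom, mulLeftShear_hom_snd, MonObj.mul_comp,
      Category.comp_id]

/-- Flatness at the unit point over `s` implies flatness at all points over `s`. -/
theorem isFlatAt_of_unit [Flat H.hom] (x : H.left) (h : IsFlatAt u.left (unitSec H (H.hom x))) :
    IsFlatAt u.left x :=
  Groth.Agent.Sga3C.FlatHomog.isFlatAt_of_isFlatAt u (mulLeftShear u) (shear_comm u) x
    (unitSec H (H.hom x)) (hom_unitSec H _).symm h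

variable [LocallyOfFinitePresentation H.hom] [LocallyOfFiniteType Z.hom]

/-- The open set of points of `S` over which `u` is flat. -/
noncomputable def locus : S.Opens :=
  ⟨{s | IsFlatAt u.left (unitSec H s)}, by
    have h1 := lfp_left u
    have h2 := (Groth.Agent.S0386.result u.left).preimage (unitSec H).continuous
    convert h2 using 1
    ext s
    exact isFlatAt_iff_stalkMap _ _⟩

omit [GrpObj Z] [IsMonHom u] in
lemma mem_locus (s : S) : s ∈ locus u ↔ IsFlatAt u.left (unitSec H s) := Iff.rfl

variable [Flat H.hom]

omit [GrpObj Z] [IsMonHom u] in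
/-- A point of `S` over which `u` is flat is in the flat locus. -/
theorem mem_locus_of_point (s : S) {K : Type u} [Field K] (p : Spec (CommRingCat.of K) ⟶ S)
    (hp : p (IsLocalRing.closedPoint K) = s) (h : Flat ((Over.pullback p).map u).left) : s ∈ locus u := by
  rw [mem_locus]
  refine isFlatAt_of_point u _ p ?_ h
  rw [hom_unitSec, hp]

theorem flat_bc {S' : Scheme.{u}} (f : S' ⟶ S) (h : ∀ s' : S', f s' ∈ locus u) :
    Flat ((Over.pullback f).map u).left := by
  refine flat_of_forall_isFlatAt _ fun x' => ?_
  refine IsFlatAt.of_isPullback (isPullback_map_left f u) x' ?_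
  refine isFlatAt_of_unit u _ ?_
  have h1 : H.hom (pullback.fst H.hom f x') = f (pullback.snd H.hom f x') := by
    rw [← Scheme.Hom.comp_apply, ← Scheme.Hom.comp_apply, pullback.condition]
  rw [h1]
  exact h _

/-- **The flat locus and base change.** -/
theorem flat_bc_iff {S' : Scheme.{u}} (f : S' ⟶ S) :
    Flat ((Over.pullback f).map u).left ↔ ∀ s' : S', f s' ∈ locus u := by
  refine ⟨fun h s' => ?_, flat_bc u f⟩
  refine mem_locus_of_point u (f s') (K := S'.residueField s') (S'.fromSpecResidueField s' ≫ f) ?_ ?_
  · rw [Scheme.Hom.comp_apply]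
    congr 1
    exact Scheme.fromSpecResidueField_apply _ _
  · set k := S'.fromSpecResidueField s'
    have h1 := isPullback_map_left f u
    have h2 := isPullback_map_left (k ≫ f) u
    let a : (Red.bc (k ≫ f) Z).left ⟶ (Red.bc f Z).left :=
      pullback.lift (pullback.fst _ _) (pullback.snd _ _ ≫ k) (by
        rw [Category.assoc]; exact pullback.condition)
    have ha : a ≫ pullback.fst Z.hom f = pullback.fst Z.hom (k ≫ f) := pullback.lift_fst _ _ _
    rw [← ha] at h2
    have h3 := IsPullback.of_right' h2 h1
    exact MorphismProperty.of_isPullback h3 h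

/-- If `u` is moreover a monomorphism, its base change to `S'` is an open immersion iff `S'` maps to the flat locus. -/
theorem isOpenImmersion_bc [Mono u] {S' : Scheme.{u}} (f : S' ⟶ S) (h : ∀ s' : S', f s' ∈ locus u) :
    IsOpenImmersion ((Over.pullback f).map u).left := by
  have h1 := flat_bc u f h
  have h2 : Mono u.left := inferInstanceAs (Mono ((Over.forget S).map u))
  have h3 : Mono ((Over.pullback f).map u).left :=
    MorphismProperty.of_isPullback (P := MorphismProperty.monomorphisms _) (isPullback_map_left f u)
      (MorphismProperty.monomorphisms.infer_property u.left)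
  have h4 := lfp_left u
  have h5 : LocallyOfFinitePresentation ((Over.pullback f).map u).left :=
    MorphismProperty.of_isPullback (isPullback_map_left f u) h4
  exact IsOpenImmersion.of_flat_of_mono _

end Group

end Groth.Agent.Sga3.H773.FlatLoc
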