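import Groth.Agent.Sga3.H773.CartCent
import Groth.Agent.FlatA.EtaleSections

/-!
# Two Cartan subgroups are conjugate locally for the étale topology
-/

set_option autoImplicit false
universe u
open CategoryTheory MonoidalCategory CartesianMonoidalCategory MonObj GrpObj AlgebraicGeometry Limits

namespace Groth.Agent.Sga3.H773.LocConj

open Groth.Agent.Sga3B Groth.Agent.Sga3B.DSPts Groth.Agent.Sga3.H797.HomFin FinCent ToBc RegLoc ConjReg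
  CartanFacts CartCent Groth.Agent.Agf.H583.ConjSub

variable {S : Scheme.{u}}

lemma inv_pow {l : ℕ} (h : Inv l S) (m : ℕ) : Inv (l ^ m) S := by
  unfold Groth.Agent.Sga3.H797.HomFin.Inv
  rw [Nat.cast_pow]
  exact IsUnit.pow m h

section general

variable {G C : Over S} [GrpObj G] [GrpObj C] {c : C ⟶ G} {Γ : Type*} [Group Γ]

/-- If `C` is the whole centralizer of `φ`, then `φ` is regular. -/
lemma reg_of_factor {Y : Over S} {φ : Γ →* (Y ⟶ C)} (h : ∀ (T : Over S) (t : T ⟶ Y) (g : T ⟶ G),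
    (∀ γ, g * (t ≫ φ γ ≫ c) = (t ≫ φ γ ≫ c) * g) → ∃ q : T ⟶ C, q ≫ c = g) : Reg c φ := by
  intro Y' y g hg
  refine ⟨⊤, fun Y'' v => ⟨fun _ _ => trivial, fun _ => ?_⟩⟩
  obtain ⟨q, hq⟩ := h Y' y g hg
  exact ⟨v ≫ q, by rw [Category.assoc, hq]⟩

/-- Transfer of the centralizer property from the base change. -/
lemma factor_of_cent {X : Over S} (φ₀ : Γ →* (𝟙_ (Over X.left) ⟶ Red.bc X.hom C))
    (hΓ : ∀ (T : Over X.left) (g : T ⟶ Red.bc X.hom G), (∀ γ, g * (toUnit T ≫ φ₀ γ ≫ (Over.pullback X.hom).map c) =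
      (toUnit T ≫ φ₀ γ ≫ (Over.pullback X.hom).map c) * g) →
      ∃ t : T ⟶ Red.bc X.hom C, t ≫ (Over.pullback X.hom).map c = g)
    (T : Over S) (t : T ⟶ X) (g : T ⟶ G)
    (hg : ∀ γ, g * (t ≫ (toPt C X).symm (φ₀ γ) ≫ c) = (t ≫ (toPt C X).symm (φ₀ γ) ≫ c) * g) :
    ∃ q : T ⟶ C, q ≫ c = g := by
  have h1 : ∀ γ, toUnit (Over.mk t.left) ≫ φ₀ γ ≫ (Over.pullback X.hom).map c =
      toBc G t (t ≫ (toPt C X).symm (φ₀ γ) ≫ c) := by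
    intro γ
    have h2 := toUnit_toPt C t ((toPt C X).symm (φ₀ γ))
    rw [MulEquiv.apply_symm_apply] at h2
    rw [← Category.assoc, h2, toBc_comp, Category.assoc]
  obtain ⟨q, hq⟩ := hΓ (Over.mk t.left) (toBc G t g) fun γ => by
    rw [h1, ← map_mul, ← map_mul, hg γ]
  refine ⟨(toBc C t).symm q, (toBc G t).injective ?_⟩
  rw [← toBc_comp, MulEquiv.apply_symm_apply, hq]

end general

variable (F : Facts.{u}) {G C₁ C₂ : Over S} [GrpObj G] [GrpObj C₁] [GrpObj C₂] [Smooth G.hom] [QuasiCompact G.hom]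
  [GeometricallyIrreducible G.hom] [IsSeparated G.hom] {c₁ : C₁ ⟶ G} {c₂ : C₂ ⟶ G}

include F in
/-- Local conjugacy when a prime is invertible on the base. -/
theorem exists_etale_conj_of_inv (hc₁ : SGA3x.IsCartan c₁) (hc₂ : SGA3x.IsCartan c₂) {l : ℕ} (hl : l.Prime)
    (hn : Inv l S) (s : S) :
    ∃ (W : Over S) (_ : Etale W.hom) (_ : s ∈ Set.range W.hom) (g : W ⟶ G), ConjSub c₁ c₂ g := by
  have hm₁ := hc₁.1
  have hm₁' := hc₁.2.1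
  have hs₁ := hc₁.2.2.1
  have hsep₁ : IsSeparated C₁.hom := isSeparated_of_mono (c := c₁)
  have hirr₁ := geomIrr F hc₁
  have hm₂ := hc₂.1
  have hm₂' := hc₂.2.1
  have hs₂ := hc₂.2.2.1
  have hsep₂ : IsSeparated C₂.hom := isSeparated_of_mono (c := c₂)
  have hirr₂ := geomIrr F hc₂
  -- the geometric point
  let X : Over S := Over.mk (Red.geomPt s)
  have hK₁ := F.point S G C₁ fibre_conn c₁ hc₁ _ (Red.geomPt s)
  have hK₂ := F.point S G C₂ fibre_conn c₂ hc₂ _ (Red.geomPt s)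
  obtain ⟨Γ, _, _, φ₀, ⟨m, hm⟩, hΓ⟩ := F.tors _ _ _ _ hK₁ l hl (ne_zero_of_inv hn (Red.geomPt s))
  obtain ⟨h₀, hh₀⟩ := F.conj _ _ _ _ _ _ hK₁ hK₂
  have hn' : Inv (Nat.card Γ) S := by
    rw [hm]; exact inv_pow hn m
  let φ₁ : Γ →* (X ⟶ C₁) := (toPt C₁ X).symm.toMonoidHom.comp φ₀
  have hfac₁ : ∀ (T : Over S) (t : T ⟶ X) (g : T ⟶ G),
      (∀ γ, g * (t ≫ φ₁ γ ≫ c₁) = (t ≫ φ₁ γ ≫ c₁) * g) → ∃ q : T ⟶ C₁, q ≫ c₁ = g :=
    factor_of_cent (X := X) φ₀ fun T g hg => (hΓ T g).2 hg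
  have hreg₁ : Reg c₁ φ₁ := reg_of_factor hfac₁
  let h₁ : X ⟶ G := (toPt G X).symm h₀
  have hh₁ : ConjSub c₁ c₂ h₁ := by
    have h2 := (conjSub_bc (Red.geomPt s) c₁ c₂ h₀).1 hh₀
    exact h2.comp (ovIso (𝟙 X)).inv
  -- the conjugate homomorphism
  choose f₂ hf₂ using fun γ => (hh₁ X (𝟙 X)).1 (φ₁ γ)
  have hf₂' : ∀ γ, h₁ * (φ₁ γ ≫ c₁) * h₁⁻¹ = f₂ γ ≫ c₂ := fun γ => by
    have := hf₂ γ
    rwa [Category.id_comp] at this
  let φ₂ : Γ →* (X ⟶ C₂) := MonoidHom.mk' f₂ fun a b => by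
    rw [← cancel_mono c₂, MonObj.mul_comp, ← hf₂', ← hf₂', ← hf₂', map_mul, MonObj.mul_comp]
    group
  have hφ : ∀ γ, h₁ * (φ₁ γ ≫ c₁) * h₁⁻¹ = φ₂ γ ≫ c₂ := hf₂'
  have hreg₂ : Reg c₂ φ₂ := by
    refine reg_of_factor fun T t g hg => ?_
    obtain ⟨q, hq⟩ := hfac₁ T t ((t ≫ h₁)⁻¹ * g * (t ≫ h₁)) fun γ => by
      have h3 := conj_commute c₂ c₁ (φ₁ := φ₂) (φ₂ := φ₁) (h := h₁⁻¹) (fun γ => by rw [← hφ]; group) t g hg γ
      rwa [GrpObj.comp_inv, _root_.inv_inv] at h3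
    obtain ⟨q', hq'⟩ := (hh₁ T t).1 q
    refine ⟨q', ?_⟩
    rw [← hq', hq]
    group
  -- the schemes of homomorphisms
  obtain ⟨H₁, υ₁, hH₁, hHsep₁, hHlfp₁, -⟩ := exists_rep C₁ Γ
  obtain ⟨H₂, υ₂, hH₂, hHsep₂, hHlfp₂, -⟩ := exists_rep C₂ Γ
  have hl₁ := hHlfp₁ inferInstance
  have hl₂ := hHlfp₂ inferInstance
  have hsm₁ := smooth_rep hH₁ hn'
  have hsm₂ := smooth_rep hH₂ hn'
  obtain ⟨U₁, hU₁⟩ := exists_locus c₁ υ₁ (hn'.of_hom H₁.hom) (central F hc₁ υ₁ (hn'.of_hom H₁.hom))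
  obtain ⟨U₂, hU₂⟩ := exists_locus c₂ υ₂ (hn'.of_hom H₂.hom) (central F hc₂ υ₂ (hn'.of_hom H₂.hom))
  obtain ⟨τ₁, hτ₁, -⟩ := hH₁.existsUnique X φ₁
  obtain ⟨τ₂, hτ₂, -⟩ := hH₂.existsUnique X φ₂
  have hp₁ : pb τ₁ υ₁ = φ₁ := MonoidHom.ext hτ₁
  have hp₂ : pb τ₂ υ₂ = φ₂ := MonoidHom.ext hτ₂
  have hmem₁ : ∀ p, τ₁.left p ∈ U₁ := by
    rw [← hU₁, hp₁]; exact hreg₁
  have hmem₂ : ∀ p, τ₂.left p ∈ U₂ := by
    rw [← hU₂, hp₂]; exact hreg₂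
  -- the transporter
  let ψ₁ : Γ →* (H₁ ⊗ H₂ ⟶ G) := MonoidHom.mk' (fun γ => fst H₁ H₂ ≫ υ₁ γ ≫ c₁) fun a b => by
    rw [map_mul, MonObj.mul_comp, MonObj.comp_mul]
  let ψ₂ : Γ →* (H₁ ⊗ H₂ ⟶ G) := MonoidHom.mk' (fun γ => snd H₁ H₂ ≫ υ₂ γ ≫ c₂) fun a b => by
    rw [map_mul, MonObj.mul_comp, MonObj.comp_mul]
  obtain ⟨P, p, h, hp, -, hu, huniv⟩ := exists_transp hn' ψ₁ ψ₂
  obtain ⟨k, hk1, hk2⟩ := huniv X (lift τ₁ τ₂) h₁ fun γ => by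
    change h₁ * (lift τ₁ τ₂ ≫ fst H₁ H₂ ≫ υ₁ γ ≫ c₁) * h₁⁻¹ = lift τ₁ τ₂ ≫ snd H₁ H₂ ≫ υ₂ γ ≫ c₂
    rw [lift_fst_assoc, lift_snd_assoc, ← Category.assoc, hτ₁, ← Category.assoc, hτ₂]
    exact hφ γ
  let a₁ : P ⟶ H₁ := p ≫ fst H₁ H₂
  let a₂ : P ⟶ H₂ := p ≫ snd H₁ H₂
  have hka₁ : k ≫ a₁ = τ₁ := by
    rw [← Category.assoc, hk1, lift_fst]
  have hka₂ : k ≫ a₂ = τ₂ := by
    rw [← Category.assoc, hk1, lift_snd]
  let V : P.left.Opens := a₁.left ⁻¹ᵁ U₁ ⊓ a₂.left ⁻¹ᵁ U₂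
  have hkV : ∀ z, k.left z ∈ V := fun z => by
    refine ⟨?_, ?_⟩
    · change a₁.left (k.left z) ∈ U₁
      rw [← Scheme.Hom.comp_apply, ← Over.comp_left, hka₁]
      exact hmem₁ z
    · change a₂.left (k.left z) ∈ U₂
      rw [← Scheme.Hom.comp_apply, ← Over.comp_left, hka₂]
      exact hmem₂ z
  have hPs : Smooth P.hom := by
    have h3 : Smooth (H₁ ⊗ H₂).hom := by
      have : Smooth (pullback.fst H₁.hom H₂.hom ≫ H₁.hom) := inferInstance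
      exact this
    rw [← Over.w p]
    infer_instance
  have hVs : Smooth (V.ι ≫ P.hom) := inferInstance
  have hsV : s ∈ Set.range (V.ι ≫ P.hom) := by
    obtain ⟨z⟩ : Nonempty X.left := inferInstanceAs (Nonempty (Spec _))
    refine ⟨⟨k.left z, hkV z⟩, ?_⟩
    have h4 : (V.ι ≫ P.hom) ⟨k.left z, hkV z⟩ = P.hom (k.left z) := Scheme.Hom.comp_apply _ _ _
    rw [h4, ← Scheme.Hom.comp_apply, Over.w k]
    change (Red.geomPt s) z = s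
    rw [Red.geomPt, Scheme.Hom.comp_apply]
    exact Scheme.fromSpecResidueField_apply _ _
  obtain ⟨W', gW, w, hgW, hw, hh, hhW⟩ := FlatA.EtaleSections.exists_section (V.ι ≫ P.hom) s hsV
  let W : Over S := Over.mk gW
  let t : W ⟶ P := Over.homMk (hh ≫ V.ι) (by
    rw [Category.assoc]
    exact hhW)
  have htV : ∀ z, t.left z ∈ V := fun z => by
    change (hh ≫ V.ι) z ∈ V
    rw [Scheme.Hom.comp_apply]
    exact (hh z).2
  have hr₁ : Reg c₁ (pb (t ≫ a₁) υ₁) := by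
    rw [hU₁]
    exact fun z => (htV z).1
  have hr₂ : Reg c₂ (pb (t ≫ a₂) υ₂) := by
    rw [hU₂]
    exact fun z => (htV z).2
  refine ⟨W, hgW, ⟨w, hw⟩, t ≫ h, ?_⟩
  refine conjSub_of_reg c₁ c₂ (φ₁ := pb (t ≫ a₁) υ₁) (φ₂ := pb (t ≫ a₂) υ₂) (fun γ => ?_) hr₁ hr₂
    (central F hc₁ _ (hn'.of_hom W.hom)) (central F hc₂ _ (hn'.of_hom W.hom))
  have h5 := congrArg (fun f => t ≫ f) (hu γ)
  simp only [comp_mul, GrpObj.comp_inv] at h5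
  have e₁ : t ≫ p ≫ ψ₁ γ = pb (t ≫ a₁) υ₁ γ ≫ c₁ := by
    change t ≫ p ≫ fst H₁ H₂ ≫ υ₁ γ ≫ c₁ = ((t ≫ p ≫ fst H₁ H₂) ≫ υ₁ γ) ≫ c₁
    simp only [Category.assoc]
  have e₂ : t ≫ p ≫ ψ₂ γ = pb (t ≫ a₂) υ₂ γ ≫ c₂ := by
    change t ≫ p ≫ snd H₁ H₂ ≫ υ₂ γ ≫ c₂ = ((t ≫ p ≫ snd H₁ H₂) ≫ υ₂ γ) ≫ c₂
    simp only [Category.assoc]
  rw [e₁, e₂] at h5
  exact h5

/-- Every point has a neighbourhood on which some prime is invertible. -/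
lemma exists_prime_nhd (s : S) : ∃ (l : ℕ) (_ : l.Prime) (V : S.Opens), s ∈ V ∧ Inv l (V : Scheme.{u}) := by
  -- at least one of 2 and 3 is invertible in the residue field
  have key : ∀ l : ℕ, (l : S.residueField s) ≠ 0 → ∃ V : S.Opens, s ∈ V ∧ Inv l (V : Scheme.{u}) := by
    intro l hl
    refine ⟨S.basicOpen (l : Γ(S, ⊤)), ?_, ?_⟩
    · refine (S.evaluation_ne_zero_iff_mem_basicOpen (U := ⊤) s trivial _).1 ?_
      have h1 : (S.evaluation ⊤ s trivial).hom (l : Γ(S, ⊤)) = (l : S.residueField s) := map_natCast _ _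
      exact fun h2 => hl (h1.symm.trans h2)
    · have h2 := RingedSpace.isUnit_res_basicOpen S.toRingedSpace (l : Γ(S, ⊤))
      unfold Groth.Agent.Sga3.H797.HomFin.Inv
      have h3 := h2.map (Scheme.Opens.topIso (S.basicOpen (l : Γ(S, ⊤)))).inv.hom
      have h4 : (Scheme.Opens.topIso (S.basicOpen (l : Γ(S, ⊤)))).inv.hom
        ((S.presheaf.map (homOfLE (S.basicOpen_le _)).op).hom (l : Γ(S, ⊤))) = (l : Γ(S.basicOpen (l : Γ(S, ⊤)), ⊤)) := by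
        rw [map_natCast, map_natCast]
      rw [← h4]
      exact h3
  by_cases h2 : ((2 : ℕ) : S.residueField s) = 0
  · have h3 : ((3 : ℕ) : S.residueField s) ≠ 0 := by
      intro h3
      have h4 : (1 : S.residueField s) = ((3 : ℕ) : S.residueField s) - ((2 : ℕ) : S.residueField s) := by
        push_cast
        ring
      rw [h2, h3, sub_zero] at h4
      exact one_ne_zero h4
    obtain ⟨V, hV⟩ := key 3 h3
    exact ⟨3, Nat.prime_three, V, hV⟩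
  · obtain ⟨V, hV⟩ := key 2 h2
    exact ⟨2, Nat.prime_two, V, hV⟩

include F in
/-- **Two Cartan subgroups are conjugate locally for the étale topology.** -/
theorem exists_etale_conj (hc₁ : SGA3x.IsCartan c₁) (hc₂ : SGA3x.IsCartan c₂) (s : S) :
    ∃ (W : Over S) (_ : Etale W.hom) (_ : s ∈ Set.range W.hom) (g : W ⟶ G), ConjSub c₁ c₂ g := by
  obtain ⟨l, hl, V, hsV, hV⟩ := exists_prime_nhd s
  obtain ⟨W, hW, ⟨w, hw⟩, g, hg⟩ := exists_etale_conj_of_inv F (isCartan_bc F hc₁ V.ι) (isCartan_bc F hc₂ V.ι) hl hV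
    ⟨s, hsV⟩
  refine ⟨(Over.map V.ι).obj W, ?_, ⟨w, ?_⟩, (bcEquiv V.ι W G).symm g, ?_⟩
  · rw [Over.map_obj_hom]
    infer_instance
  · change (W.hom ≫ V.ι) w = s
    rw [Scheme.Hom.comp_apply, hw]
    rfl
  · exact (conjSub_bc V.ι c₁ c₂ g).1 hg

end Groth.Agent.Sga3.H773.LocConj
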