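import Groth.Agent.Sga3.H773.OrbOpen
import Groth.Agent.Sga3.H773.LocConj

/-!
# Existence of Cartan subgroups locally for the étale topology
-/

set_option autoImplicit false
universe u
open CategoryTheory MonoidalCategory CartesianMonoidalCategory MonObj GrpObj AlgebraicGeometry Limits

namespace Groth.Agent.Sga3.H773.LocExist

open Groth.Agent.Sga3B Groth.Agent.Sga3B.BcPts Groth.Agent.Sga3B.MT FamCart RegLoc ConjReg FinCent ToBc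
  Groth.Agent.Sga3.H797.HomFin CartanFacts FamReg FamUniv OrbOpen Groth.Agent.Sga3.H778.NeutralOpen
  Groth.Agent.Sga3.H778.NeutralPts

variable {S : Scheme.{u}} {G : Over S} [GrpObj G] {Γ : Type*} [Group Γ]

/-- Membership in the centralizer of a family. -/
lemma memAt_cent_iff {W : Over S} (ψ : Γ →* (W ⟶ G)) {Z : Over W.left} {z : Z ⟶ Red.bc W.hom G}
    (hz : IsCent ((toPt G W).toMonoidHom.comp ψ) z) {T : Over S} (t : T ⟶ Over.mk W.hom) (g : T ⟶ G) :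
    MemAt z t g ↔ ∀ σ, g * ((t : T ⟶ W) ≫ ψ σ) = ((t : T ⟶ W) ≫ ψ σ) * g := by
  rw [memAt_iff, hz]
  refine forall_congr' fun σ => ?_
  have h1 : toUnit (Over.mk t.left) ≫ ((toPt G W).toMonoidHom.comp ψ) σ = bcPt t ((t : T ⟶ W) ≫ ψ σ) :=
    toUnit_toPt G (t : T ⟶ W) (ψ σ)
  rw [h1, ← bcPt_mul, ← bcPt_mul, (bcPt_injective t).eq_iff]

/-- Membership in an open subscheme of a subscheme. -/
lemma exists_opens {W : Over S} {Z : Over W.left} (z : Z ⟶ Red.bc W.hom G) [Mono z] (U : Z.left.Opens)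
    {T : Over S} (t : T ⟶ Over.mk W.hom) (g : T ⟶ G) (hg : MemAt z t g) :
    ∃ V : T.left.Opens, ∀ (T' : Over S) (v : T' ⟶ T),
      MemAt (opnι Z U ≫ z) (v ≫ t) (v ≫ g) ↔ ∀ p : T'.left, v.left p ∈ V := by
  obtain ⟨ζ, hζ⟩ := (memAt_iff z t g).1 hg
  refine ⟨ζ.left ⁻¹ᵁ U, fun T' v => ?_⟩
  rw [memAt_iff, bcPt_comp, ← hζ]
  constructor
  · rintro ⟨q, hq⟩ p
    have h1 : q ≫ opnι Z U = MT.ovMap v t ≫ ζ := by
      rw [← cancel_mono z, Category.assoc, hq, Category.assoc]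
    have h2 : q.left ≫ U.ι = v.left ≫ ζ.left := congrArg CommaMorphism.left h1
    change ζ.left (v.left p) ∈ U
    rw [← Scheme.Hom.comp_apply, ← h2, Scheme.Hom.comp_apply]
    exact (q.left p).2
  · intro hp
    obtain ⟨q, hq⟩ := exists_lift U (MT.ovMap v t ≫ ζ) hp
    exact ⟨q, by rw [← Category.assoc, hq, Category.assoc]⟩

/-- The neutral component of a smooth group scheme. -/
theorem exists_neutral (Z : Over S) [GrpObj Z] [Smooth Z.hom] : ∃ (N : Z.left.Opens) (_ : GrpObj (opn Z N)),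
    IsMonHom (opnι Z N) ∧ Smooth (opn Z N).hom ∧ GeometricallyIrreducible (opn Z N).hom := by
  have hU : ∀ s, unitSec Z s ∈ (⊤ : Z.left.Opens) := fun _ => trivial
  have hUs : Smooth ((⊤ : Z.left.Opens).ι ≫ Z.hom) := inferInstance
  have hopen := isOpen_neutralSet Z ⊤ hU
  obtain ⟨hgrp, hmon⟩ := exists_grpObj Z hopen
  have hNs : Smooth (opn Z (neutral Z hopen)).hom := smooth_neutral Z ⊤ hU hopen
  refine ⟨neutral Z hopen, hgrp, hmon, hNs, ?_⟩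
  have : GrpObj (Over.mk (opn Z (neutral Z hopen)).hom) := inferInstanceAs (GrpObj (opn Z (neutral Z hopen)))
  exact Groth.Agent.Sga3C.GrpIrr.geometricallyIrreducible_of_connected_fibres _ (isConnected_fibre Z hopen)

variable [Smooth G.hom] [QuasiCompact G.hom] [GeometricallyIrreducible G.hom] [IsSeparated G.hom]
  {S' : Scheme.{u}} {f : S' ⟶ S} {C : Over S'} [GrpObj C] {c : C ⟶ Red.bc f G} [Finite Γ]

/-- The neutral component of the centralizer of a family of homomorphisms which is fibrewise conjugate to a regular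
homomorphism into a Cartan subgroup is a Cartan subgroup. -/
theorem exists_cartan_of_range (F : Facts.{u}) (hc : SGA3x.IsCartan c) (hn : Inv (Nat.card Γ) S)
    {H : Over S} {υ : Γ →* (H ⟶ G)} {Y : Over S} {r : Y ⟶ Over.mk f} {φ : Γ →* (Y ⟶ G)}
    (hmem : ∀ σ, MemAt c r (φ σ)) (hreg : RegAt c r φ)
    (o₁ : G ⊗ Y ⟶ H) (ho₁ : ∀ σ, o₁ ≫ υ σ = fst G Y * (snd G Y ≫ φ σ) * (fst G Y)⁻¹)
    (W : Over S) (t : W ⟶ H) (ht : ∀ p : W.left, t.left p ∈ Set.range o₁.left) :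
    ∃ (C₁ : Over W.left) (_ : GrpObj C₁) (c₁ : C₁ ⟶ Red.bc W.hom G), SGA3x.IsCartan c₁ := by
  have hm := hc.1
  have hm' := hc.2.1
  have hn₁ : Inv (Nat.card Γ) S' := hn.of_hom f
  let ψ : Γ →* (W ⟶ G) := (Groth.Agent.Sga3.H797.InfChart.pre G t).comp υ
  have hψ : ∀ σ, ψ σ = t ≫ υ σ := fun σ => rfl
  obtain ⟨Z, hZ, z, hzh, hzc, hZs, hcent⟩ := exists_cent (hn.of_hom W.hom) ((toPt G W).toMonoidHom.comp ψ)
  have hzm : Mono z := Over.mono_of_mono_left z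
  -- the neutral component
  obtain ⟨N, hgrp, hmon, hNs, hNirr⟩ := exists_neutral Z
  let c₁ : opn Z N ⟶ Red.bc W.hom G := opnι Z N ≫ z
  have hc₁ : IsMonHom c₁ := inferInstance
  have hc₁' : Mono c₁ := inferInstance
  refine ⟨opn Z N, hgrp, c₁, ?_⟩
  -- comparison over the fibre product
  let Q : Over S := pullback o₁ t
  let a : Q ⟶ G ⊗ Y := pullback.fst o₁ t
  let k : Q ⟶ W := pullback.snd o₁ t
  have hak : a ≫ o₁ = k ≫ t := pullback.condition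
  have hks : Surjective k.left := by
    constructor
    intro w
    obtain ⟨w', hw'⟩ := ht w
    have hpb : IsPullback a.left k.left o₁.left t.left :=
      (IsPullback.of_hasPullback o₁ t).map (Over.forget S)
    obtain ⟨ω, -, hω⟩ := Scheme.Pullback.exists_preimage_pullback (f := o₁.left) (g := t.left) w' w hw'
    refine ⟨hpb.isoPullback.inv ω, ?_⟩
    rw [← Scheme.Hom.comp_apply, hpb.isoPullback_inv_snd, hω]
  let g : Q ⟶ G := a ≫ fst G Y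
  let y : Q ⟶ Y := a ≫ snd G Y
  let x : Q ⟶ Over.mk f := y ≫ r
  have hconj : ∀ σ, k ≫ ψ σ = g * (y ≫ φ σ) * g⁻¹ := by
    intro σ
    rw [hψ, ← Category.assoc, ← hak, Category.assoc, ho₁, MonObj.comp_mul, MonObj.comp_mul, GrpObj.comp_inv,
      ← Category.assoc]
  have hreg' : RegAt c x (pb y φ) := hreg.comp y
  have hmem' : ∀ σ, MemAt c x (pb y φ σ) := fun σ => (hmem σ).comp y
  -- commutation
  have comm₁ : ∀ {T : Over S} (τ : T ⟶ Q) (δ' : T ⟶ G), (∀ σ, δ' * (τ ≫ pb y φ σ) = (τ ≫ pb y φ σ) * δ') →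
      ∀ σ, ((τ ≫ g) * δ' * (τ ≫ g)⁻¹) * ((τ ≫ k) ≫ ψ σ) = ((τ ≫ k) ≫ ψ σ) * ((τ ≫ g) * δ' * (τ ≫ g)⁻¹) := by
    intro T τ δ' hδ' σ
    rw [Category.assoc, hconj, MonObj.comp_mul, MonObj.comp_mul, GrpObj.comp_inv]
    have h1 := hδ' σ
    rw [pb_apply] at h1
    calc (τ ≫ g) * δ' * (τ ≫ g)⁻¹ * ((τ ≫ g) * (τ ≫ y ≫ φ σ) * (τ ≫ g)⁻¹)
        = (τ ≫ g) * (δ' * (τ ≫ y ≫ φ σ)) * (τ ≫ g)⁻¹ := by group
      _ = (τ ≫ g) * ((τ ≫ y ≫ φ σ) * δ') * (τ ≫ g)⁻¹ := by rw [h1]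
      _ = _ := by group
  have comm₂ : ∀ {T : Over S} (τ : T ⟶ Q) (δ : T ⟶ G), (∀ σ, δ * ((τ ≫ k) ≫ ψ σ) = ((τ ≫ k) ≫ ψ σ) * δ) →
      ∀ σ, ((τ ≫ g)⁻¹ * δ * (τ ≫ g)) * (τ ≫ pb y φ σ) = (τ ≫ pb y φ σ) * ((τ ≫ g)⁻¹ * δ * (τ ≫ g)) := by
    intro T τ δ hδ σ
    have h1 := hδ σ
    rw [Category.assoc, hconj, MonObj.comp_mul, MonObj.comp_mul, GrpObj.comp_inv] at h1
    rw [pb_apply]
    calc (τ ≫ g)⁻¹ * δ * (τ ≫ g) * (τ ≫ y ≫ φ σ)
        = (τ ≫ g)⁻¹ * (δ * ((τ ≫ g) * (τ ≫ y ≫ φ σ) * (τ ≫ g)⁻¹)) * (τ ≫ g) := by group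
      _ = (τ ≫ g)⁻¹ * ((τ ≫ g) * (τ ≫ y ≫ φ σ) * (τ ≫ g)⁻¹ * δ) * (τ ≫ g) := by rw [h1]
      _ = _ := by group
  -- the two inclusions
  let k' : Q ⟶ Over.mk W.hom := k
  have inc₁ : ∀ (T : Over S) (τ : T ⟶ Q) (δ' : T ⟶ G), MemAt c (τ ≫ x) δ' →
      MemAt c₁ (τ ≫ k') ((τ ≫ g) * δ' * (τ ≫ g)⁻¹) := by
    have hirr := geomIrr F hc
    refine forall_memAt c x (fun T τ δ' => MemAt c₁ (τ ≫ k') ((τ ≫ g) * δ' * (τ ≫ g)⁻¹)) ?_ ?_ ?_
    · intro T τ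
      rw [_root_.mul_one, mul_inv_cancel]
      exact MemAt.one _
    · intro T τ a b ha hb
      have e : (τ ≫ g) * (a * b) * (τ ≫ g)⁻¹ = ((τ ≫ g) * a * (τ ≫ g)⁻¹) * ((τ ≫ g) * b * (τ ≫ g)⁻¹) := by group
      rw [e]
      exact ha.mul hb
    · intro T τ δ' hδ'
      obtain ⟨V, hV⟩ := exists_opens z N (τ ≫ k') ((τ ≫ g) * δ' * (τ ≫ g)⁻¹)
        ((memAt_cent_iff ψ hcent (τ ≫ k') _).2 (comm₁ τ δ' fun σ =>
          commute_of_memAt F hc hn₁ x (pb y φ) hmem' T τ δ' hδ' σ))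
      refine ⟨V, fun T' v => ?_⟩
      rw [← hV T' v, Category.assoc]
      have e : ((v ≫ τ) ≫ g) * (v ≫ δ') * ((v ≫ τ) ≫ g)⁻¹ = v ≫ ((τ ≫ g) * δ' * (τ ≫ g)⁻¹) := by
        rw [MonObj.comp_mul, MonObj.comp_mul, GrpObj.comp_inv, Category.assoc]
      rw [e]
  have inc₂ : ∀ (T : Over S) (τ : T ⟶ Q) (δ : T ⟶ G), MemAt c₁ (τ ≫ k') δ →
      MemAt c (τ ≫ x) ((τ ≫ g)⁻¹ * δ * (τ ≫ g)) := by
    refine forall_memAt c₁ k' (fun T τ δ => MemAt c (τ ≫ x) ((τ ≫ g)⁻¹ * δ * (τ ≫ g))) ?_ ?_ ?_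
    · intro T τ
      rw [_root_.mul_one, inv_mul_cancel]
      exact MemAt.one _
    · intro T τ a b ha hb
      have e : (τ ≫ g)⁻¹ * (a * b) * (τ ≫ g) = ((τ ≫ g)⁻¹ * a * (τ ≫ g)) * ((τ ≫ g)⁻¹ * b * (τ ≫ g)) := by group
      rw [e]
      exact ha.mul hb
    · intro T τ δ hδ
      have hδz : MemAt z (τ ≫ k') δ := by
        obtain ⟨q, hq⟩ := (memAt_iff c₁ _ _).1 hδ
        exact (memAt_iff z _ _).2 ⟨q ≫ opnι Z N, by rw [← hq, Category.assoc]⟩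
      obtain ⟨V, hV⟩ := hreg' T τ ((τ ≫ g)⁻¹ * δ * (τ ≫ g))
        (comm₂ τ δ ((memAt_cent_iff ψ hcent (τ ≫ k') δ).1 hδz))
      refine ⟨V, fun T' v => ?_⟩
      rw [← hV T' v, Category.assoc]
      have e : ((v ≫ τ) ≫ g)⁻¹ * (v ≫ δ) * ((v ≫ τ) ≫ g) = v ≫ ((τ ≫ g)⁻¹ * δ * (τ ≫ g)) := by
        rw [MonObj.comp_mul, MonObj.comp_mul, GrpObj.comp_inv, Category.assoc]
      rw [e]
  -- conclusion
  have hwk : k.left ≫ W.hom = Q.hom := Over.w k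
  have hwx : x.left ≫ f = Q.hom := Over.w x
  refine isCartan_of_bcs F k.left hwk ?_
  refine isCartan_of_memAt_iff (isCartan_comp_cj (isCartan_bcs F hc x.left hwx) (g : Over.mk Q.hom ⟶ G))
    fun T τ δ => ?_
  rw [memAt_comp_cj, memAt_bcs hwx c τ _ x rfl, memAt_bcs hwk c₁ τ δ k' rfl]
  constructor
  · intro h1
    have h2 := inc₁ T τ _ h1
    have e : (τ ≫ g) * ((τ ≫ g)⁻¹ * δ * (τ ≫ g)) * (τ ≫ g)⁻¹ = δ := by group
    rw [e] at h2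
    exact h2
  · intro h1
    exact inc₂ T τ δ h1

end Groth.Agent.Sga3.H773.LocExist
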