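import Groth.Agent.Sga3.H773.FamUniv
import Groth.Agent.Sga3C.SchemImage

/-!
# The orbit of the universal regular family is open

`f : S' ⟶ S` flat, surjective and quasi-compact, `C` a Cartan subgroup of the base change of `G` to `S'`. The image
in `Hom(Γ, G)` of the scheme of pairs `(g, φ)`, with `φ` regular in `C`, under `(g, φ) ↦ g φ g⁻¹` is open.
-/

set_option autoImplicit false
universe u
open CategoryTheory MonoidalCategory CartesianMonoidalCategory MonObj GrpObj AlgebraicGeometry Limits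

namespace Groth.Agent.Sga3.H773.OrbOpen

open Groth.Agent.Sga3B Groth.Agent.Sga3B.BcPts Groth.Agent.Sga3B.MT FamCart RegLoc ConjReg
  Groth.Agent.Sga3.H797.HomFin CartanFacts FamReg FamUniv Groth.Agent.Agf.H583.ConjSub

variable {S S' : Scheme.{u}} {f : S' ⟶ S} {G : Over S} [GrpObj G] {C : Over S'} [GrpObj C]
  {c : C ⟶ Red.bc f G} [Smooth G.hom] [QuasiCompact G.hom] [GeometricallyIrreducible G.hom]

/-- Two fibres of a Cartan subgroup over a common geometric point of `S` are conjugate. -/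
theorem conj_at (F : Facts.{u}) (hc : SGA3x.IsCartan c) {M : Type u} [Field M] [IsAlgClosed M]
    (β : Spec (CommRingCat.of M) ⟶ S) (x₁ x₂ : Over.mk β ⟶ Over.mk f) :
    ∃ h : Over.mk β ⟶ G, ∀ (X : Over S) (a : X ⟶ Over.mk β) (g : X ⟶ G),
      MemAt c (a ≫ x₁) g ↔ MemAt c (a ≫ x₂) ((a ≫ h) * g * (a ≫ h)⁻¹) := by
  have hw₁ : x₁.left ≫ f = β := Over.w x₁
  have hw₂ : x₂.left ≫ f = β := Over.w x₂
  obtain ⟨h₀, hh₀⟩ := F.conj M (Red.bc β G) _ _ (bcs x₁.left hw₁ c) (bcs x₂.left hw₂ c)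
    (isCartanOver_bcs F hc x₁.left hw₁) (isCartanOver_bcs F hc x₂.left hw₂)
  let h₀' : Over.mk (Over.Hom.left (𝟙 (Over.mk β))) ⟶ Red.bc β G := h₀
  let h : Over.mk β ⟶ G := (overIso (𝟙 (Over.mk β))).inv ≫ (bcEquiv β _ G).symm h₀'
  have hh : bcPt (𝟙 _) h = h₀' := by
    rw [bcPt, Iso.hom_inv_id_assoc, Equiv.apply_symm_apply]
  have hval : ∀ {X : Over S} (a : X ⟶ Over.mk β), toUnit (Over.mk a.left) ≫ h₀ = bcPt a (a ≫ h) := by
    intro X a
    rw [← toE_bcPt, hh]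
    congr 1
  refine ⟨h, fun X a g => ?_⟩
  rw [← memAt_bcs hw₁ c a g x₁ rfl, ← memAt_bcs hw₂ c a _ x₂ rfl, memAt_iff, memAt_iff, bcPt_mul, bcPt_mul,
    bcPt_inv, ← hval]
  constructor
  · rintro ⟨q, hq⟩
    obtain ⟨q', hq'⟩ := (hh₀ _ (toUnit _)).1 q
    exact ⟨q', by rw [← hq', hq]⟩
  · rintro ⟨q', hq'⟩
    obtain ⟨q, hq⟩ := (hh₀ _ (toUnit _)).2 q'
    refine ⟨q, ?_⟩
    rw [hq'] at hq
    exact mul_left_cancel (mul_right_cancel hq)

variable [IsSeparated G.hom] {Γ : Type*} [Group Γ]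

omit [Smooth G.hom] [QuasiCompact G.hom] [GeometricallyIrreducible G.hom] [IsSeparated G.hom] [GrpObj C] in
/-- Conjugates of regular families. -/
lemma RegAt.conj {T₀ : Over S} {x₁ x₂ : T₀ ⟶ Over.mk f} {ψ₁ ψ₂ : Γ →* (T₀ ⟶ G)} (h : T₀ ⟶ G)
    (hψ : ∀ σ, ψ₂ σ = h * ψ₁ σ * h⁻¹)
    (hmem : ∀ (X : Over S) (a : X ⟶ T₀) (g : X ⟶ G),
      MemAt c (a ≫ x₁) g ↔ MemAt c (a ≫ x₂) ((a ≫ h) * g * (a ≫ h)⁻¹))
    (hr : RegAt c x₁ ψ₁) : RegAt c x₂ ψ₂ := by
  intro T t g hg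
  obtain ⟨V, hV⟩ := hr T t ((t ≫ h)⁻¹ * g * (t ≫ h)) fun σ => by
    have h1 := hg σ
    rw [hψ, MonObj.comp_mul, MonObj.comp_mul, GrpObj.comp_inv] at h1
    calc (t ≫ h)⁻¹ * g * (t ≫ h) * (t ≫ ψ₁ σ)
        = (t ≫ h)⁻¹ * (g * ((t ≫ h) * (t ≫ ψ₁ σ) * (t ≫ h)⁻¹)) * (t ≫ h) := by group
      _ = (t ≫ h)⁻¹ * ((t ≫ h) * (t ≫ ψ₁ σ) * (t ≫ h)⁻¹ * g) * (t ≫ h) := by rw [h1]
      _ = _ := by group
  refine ⟨V, fun T' v => ?_⟩
  rw [← hV T' v, ← Category.assoc, ← Category.assoc, hmem]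
  have e : ((v ≫ t) ≫ h) * (v ≫ ((t ≫ h)⁻¹ * g * (t ≫ h))) * ((v ≫ t) ≫ h)⁻¹ = v ≫ g := by
    rw [MonObj.comp_mul, MonObj.comp_mul, GrpObj.comp_inv, Category.assoc]
    group
  rw [e]

variable [Finite Γ]

/-- **The orbit of the universal regular family is open.** -/
theorem isOpen_range (F : Facts.{u}) [Flat f] [Surjective f] [QuasiCompact f] (hc : SGA3x.IsCartan c)
    (hn : Inv (Nat.card Γ) S) {H : Over S} {υ : Γ →* (H ⟶ G)} (hH : IsHomScheme G Γ H υ)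
    [LocallyOfFinitePresentation H.hom] {Y : Over S} {r : Y ⟶ Over.mk f} {φ : Γ →* (Y ⟶ G)} [Smooth r.left]
    (hmem : ∀ σ, MemAt c r (φ σ)) (hreg : RegAt c r φ)
    (huniv : ∀ (T₀ : Over S) (x : T₀ ⟶ Over.mk f) (ψ : Γ →* (T₀ ⟶ G)), (∀ σ, MemAt c x (ψ σ)) →
      RegAt c x ψ → ∃ y : T₀ ⟶ Y, y ≫ r = x ∧ ∀ σ, y ≫ φ σ = ψ σ)
    (o₁ : G ⊗ Y ⟶ H) (ho₁ : ∀ σ, o₁ ≫ υ σ = fst G Y * (snd G Y ≫ φ σ) * (fst G Y)⁻¹) :
    IsOpen (Set.range o₁.left) := by
  have hm := hc.1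
  have hm' := hc.2.1
  let X : Over S := Over.mk f
  let o : G ⊗ Y ⟶ H ⊗ Y := lift o₁ (snd G Y)
  have hos : Smooth o.left := smooth_orbit hH hn φ o (lift_snd _ _) fun σ => by
    rw [← Category.assoc, lift_fst, ho₁]
  let O : G ⊗ Y ⟶ H ⊗ X := o ≫ (H ◁ r)
  have hOs : Smooth O.left := by
    have : Smooth (H ◁ r).left :=
      MorphismProperty.of_isPullback (Sga3C.SchemImage.isPullback_whiskerLeft_left r H).flip ‹_›
    rw [Over.comp_left]
    infer_instance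
  have hO1 : O ≫ fst H X = o₁ := by
    change (o ≫ H ◁ r) ≫ fst H X = o₁
    rw [Category.assoc, whiskerLeft_fst, lift_fst]
  have hO2 : O ≫ snd H X = snd G Y ≫ r := by
    change (o ≫ H ◁ r) ≫ snd H X = snd G Y ≫ r
    rw [Category.assoc, whiskerLeft_snd, ← Category.assoc, lift_snd]
  have hOo : IsOpen (Set.range O.left) := O.left.isOpenMap.isOpen_range
  -- saturation
  have hsat : ∀ z₁ z₂ : (H ⊗ X).left, (fst H X).left z₁ = (fst H X).left z₂ → z₁ ∈ Set.range O.left →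
      z₂ ∈ Set.range O.left := by
    rintro _ z₂ hz ⟨w₁, rfl⟩
    rw [← Scheme.Hom.comp_apply] at hz
    obtain ⟨ω, hω₁, hω₂⟩ := Scheme.Pullback.exists_preimage_pullback (f := O.left ≫ (fst H X).left)
      (g := (fst H X).left) w₁ z₂ hz
    let P := pullback (O.left ≫ (fst H X).left) (fst H X).left
    let M := AlgebraicClosure (P.residueField ω)
    let ρ : Spec (CommRingCat.of M) ⟶ P := Red.geomPt ω
    have hρ : ∀ p, ρ p = ω := fun p => by
      change (Red.geomPt ω) p = ω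
      rw [Red.geomPt, Scheme.Hom.comp_apply]
      exact Scheme.fromSpecResidueField_apply _ _
    let a₀ : Spec (CommRingCat.of M) ⟶ (G ⊗ Y).left := ρ ≫ pullback.fst _ _
    let b₀ : Spec (CommRingCat.of M) ⟶ (H ⊗ X).left := ρ ≫ pullback.snd _ _
    have hab : a₀ ≫ O.left ≫ (fst H X).left = b₀ ≫ (fst H X).left := by
      rw [Category.assoc, pullback.condition, ← Category.assoc]
    let β : Spec (CommRingCat.of M) ⟶ S := a₀ ≫ (G ⊗ Y).hom
    let a : Over.mk β ⟶ G ⊗ Y := Over.homMk a₀ rfl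
    let b : Over.mk β ⟶ H ⊗ X := Over.homMk b₀ (by
      change b₀ ≫ (H ⊗ X).hom = a₀ ≫ (G ⊗ Y).hom
      rw [← Over.w (fst H X), ← Over.w O, ← Over.w (fst H X), ← Category.assoc, ← hab]
      simp only [Category.assoc])
    have hab' : a ≫ O ≫ fst H X = b ≫ fst H X := by
      ext1
      exact hab
    let g : Over.mk β ⟶ G := a ≫ fst G Y
    let y : Over.mk β ⟶ Y := a ≫ snd G Y
    let x₁ : Over.mk β ⟶ X := y ≫ r
    let x₂ : Over.mk β ⟶ X := b ≫ snd H X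
    obtain ⟨h, hh⟩ := conj_at F hc β x₁ x₂
    let ψ₂ : Γ →* (Over.mk β ⟶ G) := MonoidHom.mk' (fun σ => h * (y ≫ φ σ) * h⁻¹) fun s t => by
      rw [map_mul, MonObj.comp_mul]
      group
    have hmem₂ : ∀ σ, MemAt c x₂ (ψ₂ σ) := fun σ => by
      have h1 := (hh _ (𝟙 _) (y ≫ φ σ)).1 (by
        rw [Category.id_comp]
        exact (hmem σ).comp y)
      rw [Category.id_comp, Category.id_comp] at h1
      exact h1
    have hreg₂ : RegAt c x₂ ψ₂ :=
      RegAt.conj (c := c) (x₁ := x₁) (ψ₁ := pb y φ) h (fun σ => rfl) hh (hreg.comp y)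
    obtain ⟨y₂, hy₂, hy₂'⟩ := huniv _ x₂ ψ₂ hmem₂ hreg₂
    let a₂ : Over.mk β ⟶ G ⊗ Y := lift (g * h⁻¹) y₂
    have ha₂ : a₂ ≫ O = b := by
      apply CartesianMonoidalCategory.hom_ext
      · rw [Category.assoc, ← hab', hO1]
        refine (hH.existsUnique _ ((Groth.Agent.Sga3.H797.InfChart.pre G (a ≫ o₁)).comp υ)).unique
          (fun σ => ?_) (fun σ => rfl)
        have e1 : ((Groth.Agent.Sga3.H797.InfChart.pre G (a ≫ o₁)).comp υ) σ =
            a ≫ (fst G Y * (snd G Y ≫ φ σ) * (fst G Y)⁻¹) := by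
          rw [← ho₁, ← Category.assoc]
          rfl
        rw [e1, Category.assoc, ho₁, MonObj.comp_mul, MonObj.comp_mul, GrpObj.comp_inv, MonObj.comp_mul,
          MonObj.comp_mul, GrpObj.comp_inv, lift_fst, lift_snd_assoc, hy₂']
        change g * h⁻¹ * (h * (y ≫ φ σ) * h⁻¹) * (g * h⁻¹)⁻¹ = (a ≫ fst G Y) * (a ≫ snd G Y ≫ φ σ) * (a ≫ fst G Y)⁻¹
        rw [← Category.assoc a]
        group
        rfl
      · rw [Category.assoc, hO2, lift_snd_assoc, hy₂]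
    obtain ⟨p⟩ : Nonempty (Spec (CommRingCat.of M)) := inferInstance
    refine ⟨a₂.left p, ?_⟩
    rw [← Scheme.Hom.comp_apply, ← Over.comp_left, ha₂]
    change (ρ ≫ pullback.snd _ _) p = z₂
    rw [Scheme.Hom.comp_apply, hρ, hω₂]
  -- the projection is a quotient map
  have hπ1 : Flat (fst H X).left := inferInstanceAs (Flat (pullback.fst H.hom f))
  have hπ2 : Surjective (fst H X).left := inferInstanceAs (Surjective (pullback.fst H.hom f))
  have hπ3 : QuasiCompact (fst H X).left := inferInstanceAs (QuasiCompact (pullback.fst H.hom f))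
  rw [← (Flat.isQuotientMap_of_surjective (fst H X).left).isOpen_preimage]
  convert hOo using 1
  ext z
  constructor
  · rintro ⟨w, hw⟩
    refine hsat (O.left w) z ?_ ⟨w, rfl⟩
    rw [← Scheme.Hom.comp_apply, ← Over.comp_left, hO1, hw]
  · rintro ⟨w, rfl⟩
    refine ⟨w, ?_⟩
    rw [← hO1, Over.comp_left, Scheme.Hom.comp_apply]

end Groth.Agent.Sga3.H773.OrbOpen
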