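import Groth.Agent.Sga3B.DSPts

/-!
# Points of a base change

`y : Y' ⟶ Y` a morphism of schemes over `S`. The `Y'`-points of `G` over `S` are the same thing as the points of the
base change of `G` to `Y` with values in `Y'` over `Y`.
-/

set_option autoImplicit false
universe u
open CategoryTheory MonoidalCategory CartesianMonoidalCategory MonObj GrpObj AlgebraicGeometry Limits

namespace Groth.Agent.Sga3.H773.ToBc

open Groth.Agent.Sga3B.DSPts

variable {S : Scheme.{u}}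

/-- `Y'` over `Y`, viewed over `S`. -/
noncomputable def ovIso {Y' Y : Over S} (y : Y' ⟶ Y) : (Over.map Y.hom).obj (Over.mk y.left) ≅ Y' :=
  Over.isoMk (Iso.refl _) (by
    have := Over.w y
    simp only [Iso.refl_hom, Category.id_comp, Over.map_obj_hom, Over.mk_hom]
    exact this.symm)

@[simp] lemma ovIso_hom_left {Y' Y : Over S} (y : Y' ⟶ Y) : (ovIso y).hom.left = 𝟙 _ := rfl

@[simp] lemma ovIso_inv_left {Y' Y : Over S} (y : Y' ⟶ Y) : (ovIso y).inv.left = 𝟙 _ := rfl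

/-- A morphism of `Y`-schemes from morphisms of `S`-schemes. -/
noncomputable abbrev ovMap {Y'' Y' Y : Over S} (v : Y'' ⟶ Y') (y : Y' ⟶ Y) :
    Over.mk (v ≫ y).left ⟶ Over.mk y.left := Over.homMk v.left rfl

lemma map_ovMap {Y'' Y' Y : Over S} (v : Y'' ⟶ Y') (y : Y' ⟶ Y) :
    (Over.map Y.hom).map (ovMap v y) ≫ (ovIso y).hom = (ovIso (v ≫ y)).hom ≫ v := by
  ext1
  change v.left ≫ 𝟙 _ = 𝟙 _ ≫ v.left
  rw [Category.comp_id, Category.id_comp]

variable (G : Over S) [GrpObj G]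

/-- Points of the base change. -/
noncomputable def toBc {Y' Y : Over S} (y : Y' ⟶ Y) : (Y' ⟶ G) ≃* (Over.mk y.left ⟶ Red.bc Y.hom G) where
  toFun g := bcEquiv Y.hom (Over.mk y.left) G ((ovIso y).hom ≫ g)
  invFun g := (ovIso y).inv ≫ (bcEquiv Y.hom (Over.mk y.left) G).symm g
  left_inv g := by simp
  right_inv g := by simp
  map_mul' a b := by rw [MonObj.comp_mul, map_mul]

lemma toBc_apply {Y' Y : Over S} (y : Y' ⟶ Y) (g : Y' ⟶ G) :
    toBc G y g = bcEquiv Y.hom (Over.mk y.left) G ((ovIso y).hom ≫ g) := rfl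

/-- Naturality in the test scheme. -/
lemma toBc_naturality {Y'' Y' Y : Over S} (v : Y'' ⟶ Y') (y : Y' ⟶ Y) (g : Y' ⟶ G) :
    ovMap v y ≫ toBc G y g = toBc G (v ≫ y) (v ≫ g) := by
  rw [toBc_apply, toBc_apply, bcEquiv_naturality, ← Category.assoc, map_ovMap, Category.assoc]

lemma toBc_symm_naturality {Y'' Y' Y : Over S} (v : Y'' ⟶ Y') (y : Y' ⟶ Y)
    (g : Over.mk y.left ⟶ Red.bc Y.hom G) :
    v ≫ (toBc G y).symm g = (toBc G (v ≫ y)).symm (ovMap v y ≫ g) := by
  apply (toBc G (v ≫ y)).injective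
  rw [← toBc_naturality, MulEquiv.apply_symm_apply, MulEquiv.apply_symm_apply]

variable {G} in
/-- Naturality in the group. -/
lemma toBc_comp {Y' Y : Over S} (y : Y' ⟶ Y) (g : Y' ⟶ G) {G' : Over S} [GrpObj G'] (h : G ⟶ G') :
    toBc G y g ≫ (Over.pullback Y.hom).map h = toBc G' y (g ≫ h) := by
  rw [toBc_apply, toBc_apply, bcEquiv_comp, Category.assoc]

/-- `S`-points of the base change from `Y`-points. -/
noncomputable def toPt (Y : Over S) : (Y ⟶ G) ≃* (𝟙_ (Over Y.left) ⟶ Red.bc Y.hom G) :=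
  toBc G (𝟙 Y)

lemma toUnit_toPt {Y' Y : Over S} (y : Y' ⟶ Y) (g : Y ⟶ G) :
    toUnit (Over.mk y.left) ≫ toPt G Y g = toBc G y (y ≫ g) := by
  have h1 := toBc_naturality G y (𝟙 Y) g
  have h2 : ∀ (y' : Y' ⟶ Y) (_ : y' = y), (Over.homMk y.left (by
      subst y'
      change y.left ≫ 𝟙 _ = y.left
      rw [Category.comp_id]) : Over.mk y'.left ⟶ 𝟙_ (Over Y.left)) ≫ toPt G Y g = toBc G y' (y ≫ g) →
      toUnit (Over.mk y.left) ≫ toPt G Y g = toBc G y (y ≫ g) := by
    rintro y' rfl h3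
    rw [← h3]
    congr 1
  exact h2 (y ≫ 𝟙 Y) (Category.comp_id y) h1

end Groth.Agent.Sga3.H773.ToBc
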