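import Groth.Agent.Sga3.H773.FlatLoc
import Groth.Agent.Sga3.H773.FinCent
import Groth.Agent.Sga3.H773.ToBc

/-!
# Regular homomorphisms from finite groups

`C` a subgroup scheme of `G`, `φ : Γ →* C(Y)` a family of homomorphisms from a finite group. `Reg c φ` means that
`C` is an open subfunctor of the centralizer of `φ` in `G`. The main result says that the regular locus is
open.
-/

set_option autoImplicit false
universe u
open CategoryTheory MonoidalCategory CartesianMonoidalCategory MonObj GrpObj AlgebraicGeometry Limits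

namespace Groth.Agent.Sga3.H773.RegLoc

open Groth.Agent.Sga3.H797.HomFin FinCent FlatLoc ToBc
open Groth.Agent.Sga3B.Parab.FibIsoSch (isPullback_map_left)

variable {S : Scheme.{u}} {G C : Over S} [GrpObj G] [GrpObj C] (c : C ⟶ G) {Γ : Type*} [Group Γ]

/-- `C` is an open subfunctor of the centralizer of `φ`. -/
def Reg {Y : Over S} (φ : Γ →* (Y ⟶ C)) : Prop :=
  ∀ (Y' : Over S) (y : Y' ⟶ Y) (g : Y' ⟶ G), (∀ γ, g * (y ≫ φ γ ≫ c) = (y ≫ φ γ ≫ c) * g) →
    ∃ V : Y'.left.Opens, ∀ (Y'' : Over S) (v : Y'' ⟶ Y'),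
      (∃ q : Y'' ⟶ C, q ≫ c = v ≫ g) ↔ ∀ p : Y''.left, v.left p ∈ V

/-- Pulling back families of homomorphisms. -/
noncomputable abbrev pb {Y T : Over S} (t : T ⟶ Y) (φ : Γ →* (Y ⟶ C)) : Γ →* (T ⟶ C) :=
  (Groth.Agent.Sga3.H797.InfChart.pre C t).comp φ

lemma pb_apply {Y T : Over S} (t : T ⟶ Y) (φ : Γ →* (Y ⟶ C)) (γ : Γ) : pb t φ γ = t ≫ φ γ := rfl

variable {c} in
lemma Reg.comp {Y T : Over S} {φ : Γ →* (Y ⟶ C)} (h : Reg c φ) (t : T ⟶ Y) : Reg c (pb t φ) := by
  intro Y' y g hg
  refine h Y' (y ≫ t) g fun γ => ?_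
  have := hg γ
  simp only [pb_apply, Category.assoc] at this ⊢
  exact this

/-- A monomorphism of schemes with the functor of points of an open subscheme is an open immersion. -/
lemma isOpenImmersion_of_opens {X W : Scheme.{u}} (m : X ⟶ W) [Mono m] (V : W.Opens)
    (h1 : ∀ p, m p ∈ V) (h2 : ∃ k : (V : Scheme.{u}) ⟶ X, k ≫ m = V.ι) : IsOpenImmersion m := by
  obtain ⟨k, hk⟩ := h2
  have hr : Set.range m ⊆ Set.range V.ι := by
    rw [Scheme.Opens.range_ι]
    rintro _ ⟨p, rfl⟩
    exact h1 p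
  let j := IsOpenImmersion.lift V.ι m hr
  have hj : j ≫ V.ι = m := IsOpenImmersion.lift_fac _ _ _
  have h3 : j ≫ k = 𝟙 _ := by
    rw [← cancel_mono m, Category.assoc, hk, hj, Category.id_comp]
  have h4 : k ≫ j = 𝟙 _ := by
    rw [← cancel_mono V.ι, Category.assoc, hj, hk, Category.id_comp]
  have : IsIso j := ⟨k, h3, h4⟩
  rw [← hj]
  infer_instance

/-- **The regular locus is open.** -/
theorem exists_locus [IsMonHom c] [Mono c] [Flat C.hom] [LocallyOfFinitePresentation C.hom] [Smooth G.hom]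
    [IsSeparated G.hom] [Finite Γ] {Y : Over S} (φ : Γ →* (Y ⟶ C)) (hn : Inv (Nat.card Γ) Y.left)
    (hcent : ∀ (T : Over S) (t : T ⟶ Y) (q : T ⟶ C) (γ : Γ), q * (t ≫ φ γ) = (t ≫ φ γ) * q) :
    ∃ U : Y.left.Opens, ∀ (T : Over S) (t : T ⟶ Y), Reg c (pb t φ) ↔ ∀ p : T.left, t.left p ∈ U := by
  have hsm : Smooth (Red.bc Y.hom G).hom := inferInstanceAs (Smooth (pullback.snd G.hom Y.hom))
  have hsp : IsSeparated (Red.bc Y.hom G).hom := inferInstanceAs (IsSeparated (pullback.snd G.hom Y.hom))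
  have hfl : Flat (Red.bc Y.hom C).hom := inferInstanceAs (Flat (pullback.snd C.hom Y.hom))
  have hfp : LocallyOfFinitePresentation (Red.bc Y.hom C).hom :=
    inferInstanceAs (LocallyOfFinitePresentation (pullback.snd C.hom Y.hom))
  let c₁ : Red.bc Y.hom C ⟶ Red.bc Y.hom G := (Over.pullback Y.hom).map c
  have hc₁ : IsMonHom c₁ := inferInstance
  have hc₁m : Mono c₁ := inferInstance
  let φ₁ : Γ →* (𝟙_ (Over Y.left) ⟶ Red.bc Y.hom C) := (toPt C Y).toMonoidHom.comp φ
  let φ₂ : Γ →* (𝟙_ (Over Y.left) ⟶ Red.bc Y.hom G) :=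
    MonoidHom.mk' (fun γ => φ₁ γ ≫ c₁) fun a b => by rw [map_mul, MonObj.mul_comp]
  -- the values of `φ₁`, `φ₂` over test schemes
  have hφ₁ : ∀ {Y' : Over S} (y : Y' ⟶ Y) (γ : Γ), toUnit (Over.mk y.left) ≫ φ₁ γ = toBc C y (y ≫ φ γ) :=
    fun y γ => toUnit_toPt C y (φ γ)
  have hφ₂ : ∀ {Y' : Over S} (y : Y' ⟶ Y) (γ : Γ), toUnit (Over.mk y.left) ≫ φ₂ γ = toBc G y (y ≫ φ γ ≫ c) := by
    intro Y' y γ
    change toUnit (Over.mk y.left) ≫ φ₁ γ ≫ c₁ = _
    rw [← Category.assoc, hφ₁, toBc_comp, Category.assoc]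
  obtain ⟨Z, hZ, z, hz, hzc, hZs, hcentz⟩ := exists_cent hn φ₂
  have hzm : Mono z := Over.mono_of_mono_left z
  -- `C₁` is contained in the centralizer
  obtain ⟨u, hu⟩ : ∃ u : Red.bc Y.hom C ⟶ Z, u ≫ z = c₁ := by
    rw [hcentz]
    intro γ
    let T₀ : Over S := (Over.map Y.hom).obj (Red.bc Y.hom C)
    let y₀ : T₀ ⟶ Y := Over.homMk (Red.bc Y.hom C).hom rfl
    have h1 := hcent T₀ y₀ ((toBc C y₀).symm (𝟙 (Red.bc Y.hom C))) γ
    have h2 := congrArg (toBc C y₀) h1
    rw [map_mul, map_mul, MulEquiv.apply_symm_apply] at h2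
    have h3 : toBc C y₀ (y₀ ≫ φ γ) = toUnit (Red.bc Y.hom C) ≫ φ₁ γ := (hφ₁ y₀ γ).symm
    rw [h3] at h2
    have h4 := congrArg (fun f => f ≫ c₁) h2
    simp only [MonObj.mul_comp] at h4
    have h5 : (𝟙 (Red.bc Y.hom C)) ≫ c₁ = c₁ := Category.id_comp _
    exact h4
  have humon : IsMonHom u := by
    apply Groth.Agent.Sga3B.InfConjFam.isMonHom_of_mul
    intro T a b
    rw [← cancel_mono z, Category.assoc, hu, MonObj.mul_comp, MonObj.mul_comp, Category.assoc,
      Category.assoc, hu]
  have hum : Mono u := by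
    have : Mono (u ≫ z) := by rw [hu]; infer_instance
    exact mono_of_mono u z
  refine ⟨locus u, fun T t => ⟨fun h p => ?_, fun h => ?_⟩⟩
  · -- the test object: the universal point of the centralizer
    let pt := T.left.fromSpecResidueField p
    let f := pt ≫ t.left
    let W : Over (Spec (T.left.residueField p)) := Red.bc f Z
    let T₀ : Over S := Over.mk ((W.hom ≫ pt) ≫ T.hom)
    let y : T₀ ⟶ T := Over.homMk (W.hom ≫ pt) rfl
    let y' : T₀ ⟶ Y := y ≫ t
    have hy' : y'.left = W.hom ≫ f := Category.assoc _ _ _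
    let w₁ : Over.mk y'.left ⟶ Z := Over.homMk (pullback.fst Z.hom f) (by
      change pullback.fst Z.hom f ≫ Z.hom = y'.left
      rw [hy']
      exact pullback.condition)
    let g : T₀ ⟶ G := (toBc G y').symm (w₁ ≫ z)
    have hg : toBc G y' g = w₁ ≫ z := MulEquiv.apply_symm_apply _ _
    obtain ⟨V, hV⟩ := h T₀ y g fun γ => by
      apply (toBc G y').injective
      have h1 := (hcentz _ (w₁ ≫ z)).1 ⟨w₁, rfl⟩ γ
      rw [hφ₂] at h1
      rw [map_mul, map_mul, hg]
      have h2 : y ≫ pb t φ γ ≫ c = y' ≫ φ γ ≫ c := by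
        rw [pb_apply, Category.assoc, Category.assoc]
      rw [h2]
      exact h1
    let m := ((Over.pullback f).map u).left
    have hmu := isPullback_map_left f u
    have hmm : Mono m := by
      have : Mono u.left := inferInstanceAs (Mono ((Over.forget _).map u))
      exact MorphismProperty.of_isPullback (P := MorphismProperty.monomorphisms _) hmu
        (MorphismProperty.monomorphisms.infer_property u.left)
    have hmW : m ≫ pullback.snd Z.hom f = pullback.snd (Red.bc Y.hom C).hom f := pullback.lift_snd _ _ _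
    -- key computation
    have key : ∀ {Y'' : Over S} (v : Y'' ⟶ T₀) (q₁ : Over.mk (v ≫ y').left ⟶ Red.bc Y.hom C),
        q₁ ≫ u = ovMap v y' ≫ w₁ ↔ (toBc C (v ≫ y')).symm q₁ ≫ c = v ≫ g := by
      intro Y'' v q₁
      rw [← (toBc G (v ≫ y')).injective.eq_iff, ← toBc_naturality, hg, ← toBc_comp,
        MulEquiv.apply_symm_apply, ← cancel_mono z, Category.assoc, Category.assoc, hu]
    have hopen : IsOpenImmersion m := by
      refine isOpenImmersion_of_opens m V ?_ ?_
      · let Y'' : Over S := Over.mk (m ≫ T₀.hom)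
        let v : Y'' ⟶ T₀ := Over.homMk m rfl
        refine (hV Y'' v).1 ?_
        let q₁ : Over.mk (v ≫ y').left ⟶ Red.bc Y.hom C :=
          Over.homMk (pullback.fst (Red.bc Y.hom C).hom f) (by
            change pullback.fst (Red.bc Y.hom C).hom f ≫ (Red.bc Y.hom C).hom = m ≫ y'.left
            rw [hy', pullback.condition]
            exact (congrArg (· ≫ f) hmW.symm).trans (Category.assoc _ _ _))
        refine ⟨(toBc C (v ≫ y')).symm q₁, (key v q₁).1 ?_⟩
        apply Over.OverMorphism.ext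
        exact hmu.w
      · let Y'' : Over S := Over.mk (V.ι ≫ T₀.hom)
        let v : Y'' ⟶ T₀ := Over.homMk V.ι rfl
        obtain ⟨q, hq⟩ := (hV Y'' v).2 fun p => p.2
        let q₁ := toBc C (v ≫ y') q
        have h1 : q₁ ≫ u = ovMap v y' ≫ w₁ := by
          rw [key, MulEquiv.symm_apply_apply]
          exact hq
        have h2 : q₁.left ≫ u.left = V.ι ≫ pullback.fst Z.hom f := congrArg CommaMorphism.left h1
        have h3 : q₁.left ≫ (Red.bc Y.hom C).hom = (V.ι ≫ W.hom) ≫ f := by
          have h4 : q₁.left ≫ (Red.bc Y.hom C).hom = V.ι ≫ y'.left := Over.w q₁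
          rw [h4, hy', Category.assoc]
        refine ⟨pullback.lift q₁.left (V.ι ≫ W.hom) h3, ?_⟩
        apply pullback.hom_ext
        · rw [Category.assoc]
          have h5 : m ≫ pullback.fst Z.hom f = pullback.fst (Red.bc Y.hom C).hom f ≫ u.left := hmu.w.symm
          rw [h5]
          exact (pullback.lift_fst_assoc _ _ _ _).trans h2
        · rw [Category.assoc, hmW]
          exact pullback.lift_snd _ _ _
    refine mem_locus_of_point u _ f ?_ ?_
    · change (pt ≫ t.left) _ = _
      rw [Scheme.Hom.comp_apply]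
      congr 1
      exact Scheme.fromSpecResidueField_apply _ _
    · change Flat m
      infer_instance
  · intro Y' y g hg
    let y' : Y' ⟶ Y := y ≫ t
    let f := y'.left
    have hf : ∀ p, f p ∈ locus u := fun p => by
      have : f p = t.left (y.left p) := Scheme.Hom.comp_apply _ _ _
      rw [this]
      exact h _
    have hop := isOpenImmersion_bc u f hf
    obtain ⟨k, hk⟩ : ∃ k : Over.mk f ⟶ Z, k ≫ z = toBc G y' g := by
      rw [hcentz]
      intro γ
      rw [hφ₂, ← map_mul, ← map_mul]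
      have := hg γ
      rw [pb_apply, Category.assoc, ← Category.assoc y t] at this
      rw [this]
    have hkf : k.left ≫ Z.hom = 𝟙 _ ≫ f := by
      rw [Category.id_comp]
      exact Over.w k
    let k' : Y'.left ⟶ (Red.bc f Z).left := pullback.lift k.left (𝟙 _) hkf
    have hk'1 : k' ≫ pullback.fst Z.hom f = k.left := pullback.lift_fst _ _ _
    have hk'2 : k' ≫ pullback.snd Z.hom f = 𝟙 _ := pullback.lift_snd _ _ _
    let m := ((Over.pullback f).map u).left
    have hmu := isPullback_map_left f u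
    have hmZ : m ≫ pullback.snd Z.hom f = pullback.snd (Red.bc Y.hom C).hom f := pullback.lift_snd _ _ _
    refine ⟨k' ⁻¹ᵁ m.opensRange, fun Y'' v => ?_⟩
    have key : ∀ q₁ : Over.mk (v ≫ y').left ⟶ Red.bc Y.hom C,
        q₁ ≫ u = ovMap v y' ≫ k ↔ (toBc C (v ≫ y')).symm q₁ ≫ c = v ≫ g := by
      intro q₁
      rw [← (toBc G (v ≫ y')).injective.eq_iff, ← toBc_naturality, ← hk, ← toBc_comp,
        MulEquiv.apply_symm_apply, ← cancel_mono z, Category.assoc, Category.assoc, hu]
    constructor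
    · rintro ⟨q, hq⟩ p
      let q₁ := toBc C (v ≫ y') q
      have h1 : q₁ ≫ u = ovMap v y' ≫ k := by
        rw [key, MulEquiv.symm_apply_apply]
        exact hq
      have h2 : q₁.left ≫ u.left = v.left ≫ k.left := congrArg CommaMorphism.left h1
      have h3 : q₁.left ≫ (Red.bc Y.hom C).hom = v.left ≫ f := Over.w q₁
      have h4 : v.left ≫ k' = pullback.lift q₁.left v.left h3 ≫ m := by
        apply pullback.hom_ext
        · rw [Category.assoc, Category.assoc, hk'1]
          have h5 : m ≫ pullback.fst Z.hom f = pullback.fst (Red.bc Y.hom C).hom f ≫ u.left := hmu.w.symm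
          rw [h5]
          exact h2.symm.trans (pullback.lift_fst_assoc _ _ _ _).symm
        · rw [Category.assoc, Category.assoc, hmZ, hk'2, Category.comp_id]
          exact (pullback.lift_snd _ _ _).symm
      change k' (v.left p) ∈ m.opensRange
      rw [← Scheme.Hom.comp_apply, h4, Scheme.Hom.comp_apply]
      exact ⟨_, rfl⟩
    · intro hp
      have hr : Set.range (v.left ≫ k') ⊆ Set.range m := by
        rintro _ ⟨p, rfl⟩
        rw [Scheme.Hom.comp_apply]
        exact hp p
      let r := IsOpenImmersion.lift m (v.left ≫ k') hr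
      have hrm : r ≫ m = v.left ≫ k' := IsOpenImmersion.lift_fac _ _ _
      have h1 : r ≫ pullback.snd (Red.bc Y.hom C).hom f = v.left := by
        rw [← hmZ, ← Category.assoc, hrm, Category.assoc, hk'2, Category.comp_id]
      let q₁ : Over.mk (v ≫ y').left ⟶ Red.bc Y.hom C :=
        Over.homMk (r ≫ pullback.fst (Red.bc Y.hom C).hom f) (by
          rw [Category.assoc, pullback.condition]
          exact (Category.assoc _ _ _).symm.trans (congrArg (· ≫ f) h1))
      refine ⟨(toBc C (v ≫ y')).symm q₁, (key q₁).1 ?_⟩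
      apply Over.OverMorphism.ext
      change (r ≫ pullback.fst (Red.bc Y.hom C).hom f) ≫ u.left = v.left ≫ k.left
      rw [Category.assoc, hmu.w, ← hk'1, ← Category.assoc, ← Category.assoc, hrm]

end Groth.Agent.Sga3.H773.RegLoc
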